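import Groth.Agent.AlgSpB.SubQC.Approx
import Groth.Agent.AlgSpQC.Finite

/-!
# Finite presentation of sections is local; isomorphisms on part of the site
-/

universe u

open CategoryTheory CategoryTheory.Limits AlgebraicGeometry Opposite

set_option backward.isDefEq.respectTransparency false
set_option backward.isDefEq.respectTransparency.types false
set_option autoImplicit false

namespace Groth.Agent.AlgSpB.FPCover

open _root_.AlgSp
open Groth.Agent.AlgSpQC
open Groth.Agent.AlgSpB.SubQC

variable {S : Scheme.{u}} {X : Space S} {M N : ModEt X.obj}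

/-- Finite presentation of sections over an affine object may be tested locally. -/
theorem finitePresentation_of_local [M.IsQuasicoherent] (E : EtOver X.obj) [IsAffine E.obj.left.left]
    (h : ∀ x : E.obj.left.left, ∃ (W : EtOver X.obj) (f : W ⟶ E), IsAffine W.obj.left.left ∧
      x ∈ Set.range f.hom.left.left ∧ Module.FinitePresentation (gr W) (sectModEt M W)) :
    Module.FinitePresentation (gr E) (sectModEt M E) := by
  classical
  choose W f hW hx hfp using h
  obtain ⟨t, ht⟩ := isCompact_univ.elim_finite_subcover (fun x => Set.range (f x).hom.left.left)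
    (fun x => by have := EtOver.etale_left (f x); exact (f x).hom.left.left.isOpenMap.isOpen_range)
    (fun x _ => Set.mem_iUnion.2 ⟨x, hx x⟩)
  let κ := {x // x ∈ t}
  let g : ∀ k : κ, W k.1 ⟶ E := fun k => f k.1
  have hg : ∀ y : E.obj.left.left, ∃ k, y ∈ Set.range (g k).hom.left.left := fun y => by
    obtain ⟨k, hk, hy⟩ := Set.mem_iUnion₂.1 (ht (Set.mem_univ y))
    exact ⟨⟨k, hk⟩, hy⟩
  have := finite_of_cover g (fun k => hW k.1) hg (fun k => have := hfp k.1; inferInstance) (M := M)
  obtain ⟨n, s, hs⟩ := exists_finite_generators (M := M) (E := E)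
  have hsurj : Function.Surjective (lc s) :=
    LinearMap.range_eq_top.1 ((Finsupp.range_linearCombination (gr E)).trans hs)
  refine Module.finitePresentation_of_surjective (lc s) hsurj ?_
  have hP := pres_of_generators (M := M) hs
  choose G hG using fun k : κ => (have := hW k.1; have := hfp k.1; exists_finset_relSpan hP (g k))
  refine ⟨(Finset.univ.biUnion G).image Subtype.val, le_antisymm (Submodule.span_le.2 ?_) fun c hc => ?_⟩
  · intro x hx
    obtain ⟨y, -, rfl⟩ := Finset.mem_image.1 hx
    exact y.2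
  · have := mem_span_of_local (𝟙 E) (((Finset.univ.biUnion G).image Subtype.val : Finset _) : Set _)
      (c := c) (AlgSp.ofArrows_mem_etTop _ g hg) fun W' b hb => by
        obtain ⟨k, a, rfl⟩ := Sieve.mem_ofArrows_iff .. |>.1 hb
        rw [← cmap_cmap (gm (g k)) (gm a) (gm (a ≫ g k)) (fun x => gm_comp (g k) a x)]
        refine cmap_mem_span (gm (g k)) (gm a) (gm ((a ≫ g k) ≫ 𝟙 E)) (fun x => gm_comp (g k) a x) ?_
        refine Submodule.span_mono ?_ (hG k (Submodule.subset_span ⟨c, hc, rfl⟩))
        rintro _ ⟨y, hy, rfl⟩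
        exact ⟨y, Finset.mem_image.2 ⟨y, Finset.mem_biUnion.2 ⟨k, Finset.mem_univ k, hy⟩, rfl⟩, rfl⟩
    rwa [show cmap (gm (𝟙 E)) = (id : (ULift.{u + 1} (Fin n) →₀ gr E) → _) from
      funext fun x => Finsupp.ext fun i => rfl, Set.image_id] at this

theorem hs_add (φ ψ : M ⟶ N) (E : EtOver X.obj) (m : sectModEt M E) :
    hs (φ + ψ) E m = hs φ E m + hs ψ E m := rfl

theorem hs_neg_map (φ : M ⟶ N) (E : EtOver X.obj) (m : sectModEt M E) :
    hs (-φ) E m = -hs φ E m := rfl

/-- A map bijective on affine objects over an open set of points is bijective on all objects over it. -/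
theorem bijective_of_inA {A : Set (Points X.obj)} (φ : M ⟶ N)
    (h : ∀ W : EtOver X.obj, IsAffine W.obj.left.left → InA A W → Function.Bijective (hs φ W))
    (E : EtOver X.obj) (hE : InA A E) : Function.Bijective (hs φ E) := by
  refine ⟨fun x y hxy => eq_of_forall_affine' fun W g hW => (h W hW (hE.of_hom g)).1 ?_, fun y => ?_⟩
  · rw [hs_rs, hs_rs, hxy]
  choose V f hV hx _ using fun x : E.obj.left.left => exists_affine_nbhd E ⊤ (x := x) trivial
  choose t ht using fun k => (h (V k) (hV k) (hE.of_hom (f k))).2 (rs N (f k) y)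
  obtain ⟨x, hx'⟩ := exists_glue_sections f (fun x => ⟨x, hx x⟩) t fun a b Z ga gb w =>
    eq_of_forall_affine' fun W g hW => (h W hW ((hE.of_hom (f a)).of_hom (g ≫ ga))).1 (by
      rw [← rs_comp, ← rs_comp, hs_rs, hs_rs, ht, ht, ← rs_comp, ← rs_comp, Category.assoc, Category.assoc, w])
  refine ⟨x, eq_of_family f (fun x => ⟨x, hx x⟩) fun k => ?_⟩
  rw [← hs_rs, hx', ht]
where
  eq_of_forall_affine' {K : ModEt X.obj} {E : EtOver X.obj} {s t : sectModEt K E}
      (h : ∀ (W : EtOver X.obj) (g : W ⟶ E), IsAffine W.obj.left.left → rs K g s = rs K g t) : s = t := by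
    obtain ⟨T, hT, hT'⟩ := exists_affine_sieve E
    refine eq_of_sieve hT fun V f hf => ?_
    obtain ⟨W, a, b, hW, rfl⟩ := hT' V f hf
    rw [rs_comp, rs_comp, h W b hW]

end Groth.Agent.AlgSpB.FPCover
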