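import Groth.Agent.AlgSpB.FPCover.EtaleRes
import Groth.Agent.AlgSpB.FPCover.LocalFP
import Groth.Agent.AlgSpQC.PushQcqs
import Groth.Agent.AlgSp.QCMor
import Groth.Agent.AlgSp.LimAffineMor
import Groth.Agent.StFib.Cancel

/-!
# Charts and open parts of a quasi-separated space
-/

universe u

open CategoryTheory CategoryTheory.Limits AlgebraicGeometry Opposite

set_option backward.isDefEq.respectTransparency false
set_option backward.isDefEq.respectTransparency.types false
set_option autoImplicit false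
set_option maxHeartbeats 800000

namespace Groth.Agent.AlgSpB.FPCover

open _root_.AlgSp
open Groth.Agent.AlgSpQC
open Groth.Agent.AlgSpB.SubQC

variable {S : Scheme.{u}} {U X : Space S} {j : U ⟶ X} (hj : RepWith @Etale j.hom)

/-- An object over the image of an object of the chart comes from the chart. -/
theorem exists_lift_obj {W : EtOver U.obj} {Y : EtOver X.obj} (c : Y ⟶ (post hj).obj W) :
    ∃ (W' : EtOver U.obj) (c' : W' ⟶ W) (ι : (post hj).obj W' ⟶ Y) (ι' : Y ⟶ (post hj).obj W'),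
      (post hj).map c' = ι ≫ c ∧ ι' ≫ ι = 𝟙 Y ∧ ι ≫ ι' = 𝟙 _ ∧ W'.obj.left = Y.obj.left := by
  have : Etale c.hom.left.left := EtOver.etale_left c
  let W' : EtOver U.obj := EtOver.mk ((yon S).map c.hom.left ≫ W.obj.hom)
    ((RepWith _).comp_mem _ _ ((repWith_yon_map_iff _ _).2 ‹_›) W.property)
  have hw : ((yon S).map c.hom.left ≫ W.obj.hom) ≫ j.hom = Y.obj.hom := by
    rw [Category.assoc]; exact EtOver.w c
  refine ⟨W', EtOver.homMk c.hom.left rfl, EtOver.homMk (𝟙 _) ?_, EtOver.homMk (𝟙 _) ?_, ?_, ?_, ?_, rfl⟩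
  · exact ((congrArg (· ≫ Y.obj.hom) ((yon S).map_id _)).trans (Category.id_comp _)).trans hw.symm
  · exact ((congrArg (· ≫ _) ((yon S).map_id _)).trans (Category.id_comp _)).trans hw
  · exact EtOver.hom_ext _ _ (Category.id_comp _).symm
  · exact EtOver.hom_ext _ _ (Category.id_comp _)
  · exact EtOver.hom_ext _ _ (Category.id_comp _)

theorem inA_post (W : EtOver U.obj) : InA (Set.range (Points.map j.hom)) ((post hj).obj W) := fun w =>
  ⟨Points.ofPt W.obj.hom w, Points.map_ofPt _ _ _⟩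

theorem ofPt_post (W : EtOver U.obj) (w : W.obj.left.left) :
    Points.ofPt ((post hj).obj W).obj.hom w = Points.map j.hom (Points.ofPt W.obj.hom w) :=
  (Points.map_ofPt _ _ _).symm

section QS

variable [QuasiSeparatedSpace ↥S]

theorem isQuasiCompactMor_hom (hqs : IsQuasiSeparatedSp X.obj) (hU : IsQuasiCompactSp U.obj) :
    IsQuasiCompactMor j.hom :=
  Groth.Agent.AlgSp.isQuasiCompactMor_of_quasiCompactSp U.property X.property j.hom hU hqs

theorem isQuasiSeparatedMor_of_affine {T : Over S} [IsAffine T.left] (f : (yon S).obj T ⟶ X.obj) :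
    IsQuasiSeparatedMor f := by
  let t : IsTerminal ((yon S).obj (Over.mk (𝟙 S))) :=
    IsTerminal.isTerminalObj (yon S) _ Over.mkIdTerminal
  refine Groth.Agent.StFib.isQuasiSeparatedMor_of_comp f (t.from X.obj) ?_
  rw [t.hom_ext (f ≫ t.from X.obj) ((yon S).map (Over.mkIdTerminal.from T))]
  exact (isQuasiSeparatedMor_yon_map_iff _).2
    (inferInstance)

end QS

omit j hj in
theorem isQuasiSeparatedMor_of_open {j : U ⟶ X} (hj : RepWith @IsOpenImmersion j.hom) :
    IsQuasiSeparatedMor j.hom :=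
  have := Groth.Agent.AlgSpB.mono_of_isOpenImmersion hj
  Groth.Agent.StFib.repWith_diagonal_of_mono @QuasiCompact _

omit j hj in
theorem etale_of_open {j : U ⟶ X} (hj : RepWith @IsOpenImmersion j.hom) : RepWith @Etale j.hom :=
  Groth.Agent.AlgSp.repWith_mono (fun g (hg : IsOpenImmersion g) => (inferInstance : Etale g)) hj

/-- Objects inside an open part are objects of the open part. -/
theorem counitApp_iso (ho : RepWith @IsOpenImmersion j.hom) (E : EtOver X.obj)
    (hE : InA (Set.range (Points.map j.hom)) E) :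
    ∃ σ : E ⟶ (post hj).obj ((EtOver.bc hj.1).obj E),
      σ ≫ counitApp hj E = 𝟙 E ∧ counitApp hj E ≫ σ = 𝟙 _ := by
  have := Groth.Agent.AlgSpB.mono_of_isOpenImmersion ho
  obtain ⟨l, hl⟩ := Groth.Agent.AlgSpB.exists_lift_yon_of_isOpenImmersion ho E.obj.hom (by
    rintro _ ⟨w, rfl⟩
    exact hE w)
  let s : E.obj.left ⟶ hj.1.pullback E.obj.hom := hj.1.lift l (𝟙 _) (by
    rw [hl, (yon S).map_id, Category.id_comp])
  have hs1 : (yon S).map s ≫ hj.1.fst E.obj.hom = l := hj.1.lift_fst _ _ _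
  have hs2 : s ≫ hj.1.snd E.obj.hom = 𝟙 _ := hj.1.lift_snd _ _ _
  refine ⟨EtOver.homMk s (by
    change (yon S).map s ≫ hj.1.fst E.obj.hom ≫ j.hom = E.obj.hom
    rw [← Category.assoc, hs1, hl]), EtOver.hom_ext _ _ hs2, EtOver.hom_ext _ _ ?_⟩
  change hj.1.snd E.obj.hom ≫ s = 𝟙 _
  refine hj.1.hom_ext ?_ ?_
  · refine (cancel_mono j.hom).1 ?_
    rw [Category.assoc, Category.assoc, (hj.1.isPullback E.obj.hom).w, ← (yon S).map_comp_assoc,
      ← (yon S).map_comp_assoc, Category.assoc, hs2, Category.comp_id, Category.id_comp]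
  · rw [Category.assoc, hs2, Category.comp_id, Category.id_comp]

theorem bijective_counit (ho : RepWith @IsOpenImmersion j.hom) (M : ModEt X.obj) (E : EtOver X.obj)
    (hE : InA (Set.range (Points.map j.hom)) E) : Function.Bijective (rs M (counitApp hj E)) := by
  obtain ⟨σ, h1, h2⟩ := counitApp_iso hj ho E hE
  refine Function.bijective_iff_has_inverse.2 ⟨rs M σ, fun x => ?_, fun y => ?_⟩
  · rw [← rs_comp, h1, rs_id]
  · rw [← rs_comp, h2, rs_id]

noncomputable def etaR (M : ModEt X.obj) : M ⟶ (pushModEt hj.1).obj ((Res hj).obj M) := (resAdj hj).unit.app M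

/-- A section of a direct image of a restriction as a section of the module. -/
noncomputable def sR (M : ModEt X.obj) (E : EtOver X.obj) :
    sectModEt ((pushModEt hj.1).obj ((Res hj).obj M)) E →
      sectModEt M ((post hj).obj ((EtOver.bc hj.1).obj E)) := fun x => x

theorem sR_injective (M : ModEt X.obj) (E : EtOver X.obj) : Function.Injective (sR hj M E) := fun _ _ h => h

theorem sR_surjective (M : ModEt X.obj) (E : EtOver X.obj) : Function.Surjective (sR hj M E) := fun y => ⟨y, rfl⟩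

theorem sR_etaR (M : ModEt X.obj) (E : EtOver X.obj) (n : sectModEt M E) :
    sR hj M E (hs (etaR hj M) E n) = rs M (counitApp hj E) n := resAdj_unit_app hj M E n

theorem bijective_etaR (ho : RepWith @IsOpenImmersion j.hom) (M : ModEt X.obj) (E : EtOver X.obj)
    (hE : InA (Set.range (Points.map j.hom)) E) : Function.Bijective (hs (etaR hj M) E) := by
  obtain ⟨h1, h2⟩ := bijective_counit hj ho M E hE
  refine ⟨fun a b h => h1 ?_, fun y => ?_⟩
  · rw [← sR_etaR, h, sR_etaR]
  · obtain ⟨a, ha⟩ := h2 (sR hj M E y)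
    exact ⟨a, sR_injective hj M E ((sR_etaR hj M E a).trans ha)⟩

/-- Surjectivity of a map on an affine object is local. -/
theorem surjective_of_local {M N : ModEt X.obj} [M.IsQuasicoherent] [N.IsQuasicoherent] (φ : M ⟶ N)
    (E : EtOver X.obj) [IsAffine E.obj.left.left]
    (h : ∀ x : E.obj.left.left, ∃ (W : EtOver X.obj) (f : W ⟶ E), IsAffine W.obj.left.left ∧
      x ∈ Set.range f.hom.left.left ∧ Function.Surjective (hs φ W)) : Function.Surjective (hs φ E) := by
  choose W f hW hx hs' using h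
  rw [← LinearMap.range_eq_top, eq_top_iff]
  intro z _
  refine mem_of_local _ (AlgSp.ofArrows_mem_etTop W f fun x => ⟨x, hx x⟩) fun V g hg => ?_
  obtain ⟨k, a, rfl⟩ := Sieve.mem_ofArrows_iff .. |>.1 hg
  obtain ⟨m, hm⟩ := hs' k (rs N (f k) z)
  have := hW k
  obtain ⟨c, hc⟩ := (bc_of_isQuasicoherent (M := M) (f k)).1 m
  rw [rs_comp, ← hm, ← hc, Finsupp.linearCombination_apply, map_finsuppSum, map_finsuppSum]
  refine Submodule.sum_mem _ fun y _ => ?_
  change rs N a (hs φ (W k) (c y • rs M (f k) y)) ∈ _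
  rw [map_smul, rs_smul, hs_rs, ← rs_comp]
  exact Submodule.smul_mem _ _ (Submodule.subset_span ⟨_, ⟨y, rfl⟩, rfl⟩)

/-- Finitely many affine objects cover a quasi-compact open set of points. -/
theorem exists_cover_compact (hqc : IsQuasiCompactSp X.obj) {A : Set (Points X.obj)} (hA : IsOpen A)
    (hAc : IsCompact A) : ∃ (κ : Type u) (_ : Finite κ) (P : κ → EtOver X.obj),
      (∀ k, IsAffine (P k).obj.left.left) ∧ (∀ k, InA A (P k)) ∧
      ∀ x ∈ A, ∃ k w, Points.ofPt (P k).obj.hom w = x := by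
  obtain ⟨V, p, -, hp, hps⟩ := AlgSpEN.exists_affine_atlas X hqc
  have hps := AlgSpB.surjective_ofPt hps
  choose O hO hOA w hw using fun x : A => (show ∃ (O : EtOver X.obj), IsAffine O.obj.left.left ∧ InA A O ∧
      ∃ w, Points.ofPt O.obj.hom w = x.1 by
    obtain ⟨y, hy⟩ := hps x.1
    obtain ⟨W, f, hW, ⟨w, hw⟩, hWA, -⟩ := exists_affine_nbhd (EtOver.mk p hp)
      ⟨Points.ofPt p ⁻¹' A, hA.preimage (Points.continuous_ofPt p)⟩ (x := y)
      (show Points.ofPt p y ∈ A from hy.symm ▸ x.2)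
    refine ⟨W, hW, fun t => ?_, w, ?_⟩
    · rw [← CostructuredArrow.w f.hom, AlgSpB.ofPt_map_comp]
      exact hWA ⟨t, rfl⟩
    · rw [← CostructuredArrow.w f.hom, AlgSpB.ofPt_map_comp, hw]
      exact hy)
  obtain ⟨s, hs⟩ := hAc.elim_finite_subcover (fun x : A => Set.range (Points.ofPt (O x).obj.hom))
    (fun x => by rw [← Set.image_univ]; exact AlgSpB.isOpenMap_ofPt (O x).property _ isOpen_univ)
    (fun x hx => Set.mem_iUnion.2 ⟨⟨x, hx⟩, w ⟨x, hx⟩, hw ⟨x, hx⟩⟩)
  refine ⟨ULift.{u} (Fin s.card), inferInstance, fun k => O (s.equivFin.symm k.down).1, fun k => hO _,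
    fun k => hOA _, fun x hx => ?_⟩
  obtain ⟨i, hi, t, ht⟩ := Set.mem_iUnion₂.1 (hs hx)
  refine ⟨⟨s.equivFin ⟨i, hi⟩⟩, ?_⟩
  change ∃ w, Points.ofPt (O (s.equivFin.symm (s.equivFin ⟨i, hi⟩)).1).obj.hom w = x
  rw [Equiv.symm_apply_apply]
  exact ⟨t, ht⟩

end Groth.Agent.AlgSpB.FPCover
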