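import Groth.Agent.AlgSpB.SubQC.FinSub

/-!
# Maps of modules given on affine objects
-/

universe u

open CategoryTheory CategoryTheory.Limits AlgebraicGeometry Opposite

set_option backward.isDefEq.respectTransparency false
set_option backward.isDefEq.respectTransparency.types false
set_option autoImplicit false
set_option maxHeartbeats 800000

namespace Groth.Agent.AlgSpB.FPCover

open _root_.AlgSp
open Groth.Agent.AlgSpQC
open Groth.Agent.AlgSpB.SubQC

variable {S : Scheme.{u}} {X : Space S} {M T : ModEt X.obj}
  (v : ∀ E : EtOver X.obj, IsAffine E.obj.left.left → sectModEt M E →ₗ[gr E] sectModEt T E)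
  (hv : ∀ (E W : EtOver X.obj) (hE : IsAffine E.obj.left.left) (hW : IsAffine W.obj.left.left) (g : W ⟶ E)
    (z : sectModEt M E), rs T g (v E hE z) = v W hW (rs M g z))

include hv in
theorem existsUnique_glue {E : EtOver X.obj} (z : sectModEt M E) :
    ∃! t : sectModEt T E, ∀ (W : EtOver X.obj) (g : W ⟶ E) (hW : IsAffine W.obj.left.left),
      rs T g t = v W hW (rs M g z) := by
  choose V f hV hx _ using fun x : E.obj.left.left => exists_affine_nbhd E ⊤ (x := x) trivial
  have hf : ∀ x : E.obj.left.left, ∃ k, x ∈ Set.range (f k).hom.left.left := fun x => ⟨x, hx x⟩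
  obtain ⟨t, ht⟩ := exists_glue_sections (M := T) f hf (fun k => v (V k) (hV k) (rs M (f k) z))
    fun i j Z gi gj w => SubQC.eq_of_forall_affine fun W h hW => by
      rw [← rs_comp, ← rs_comp, hv _ W _ hW, hv _ W _ hW, ← rs_comp, ← rs_comp, Category.assoc, Category.assoc, w]
  refine ⟨t, fun W g hW => ?_, fun t' ht' => eq_of_family f hf fun k => (ht' (V k) (f k) (hV k)).trans (ht k).symm⟩
  refine eq_of_sieve (GrothendieckTopology.pullback_stable _ g (AlgSp.ofArrows_mem_etTop V f hf)) fun Z h hh => ?_
  obtain ⟨k, α, hα⟩ := Sieve.mem_ofArrows_iff .. |>.1 hh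
  refine SubQC.eq_of_forall_affine fun W' c hW' => ?_
  rw [← rs_comp g h, hα, rs_comp (f k) α, ht, ← rs_comp α c, hv _ W' _ hW', ← rs_comp (f k), ← rs_comp h c,
    hv _ W' _ hW', ← rs_comp g (c ≫ h), Category.assoc, ← hα, Category.assoc]

/-- The value of the glued map. -/
noncomputable def glueVal {E : EtOver X.obj} (z : sectModEt M E) : sectModEt T E :=
  (existsUnique_glue v hv z).choose

theorem rs_glueVal {E W : EtOver X.obj} (g : W ⟶ E) (hW : IsAffine W.obj.left.left) (z : sectModEt M E) :
    rs T g (glueVal v hv z) = v W hW (rs M g z) :=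
  (existsUnique_glue v hv z).choose_spec.1 W g hW

/-- A map of modules from compatible linear maps on affine objects. -/
noncomputable def homOfAffine : M ⟶ T :=
  ⟨PresheafOfModules.homMk
    { app := fun E => AddCommGrpCat.ofHom
        { toFun := fun z => glueVal v hv (E := E.unop) z
          map_zero' := SubQC.eq_of_forall_affine fun W g hW => by
            rw [rs_glueVal v hv g hW, map_zero (rs T g)]
            exact (congrArg (v W hW) (map_zero (rs M g))).trans (map_zero (v W hW))
          map_add' := fun a b => SubQC.eq_of_forall_affine fun W g hW => by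
            rw [map_add (rs T g), rs_glueVal v hv g hW, rs_glueVal v hv g hW, rs_glueVal v hv g hW]
            exact (congrArg (v W hW) (map_add (rs M g) a b)).trans (map_add (v W hW) _ _) }
      naturality := fun E E' g => by
        ext z
        change glueVal v hv (rs M g.unop z) = rs T g.unop (glueVal v hv (E := E.unop) z)
        refine SubQC.eq_of_forall_affine fun W h hW => ?_
        rw [rs_glueVal v hv h hW, ← rs_comp, ← rs_comp, rs_glueVal v hv _ hW] }
    (fun E r z => SubQC.eq_of_forall_affine fun W g hW => by
      change rs T g (glueVal v hv ((show gr E.unop from r.down) • (show sectModEt M E.unop from z))) =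
        rs T g ((show gr E.unop from r.down) • glueVal v hv (show sectModEt M E.unop from z))
      rw [rs_smul, rs_glueVal v hv g hW, rs_glueVal v hv g hW, rs_smul, map_smul])⟩

theorem hs_homOfAffine {E : EtOver X.obj} (hE : IsAffine E.obj.left.left) (z : sectModEt M E) :
    hs (homOfAffine v hv) E z = v E hE z := by
  have h := rs_glueVal v hv (𝟙 E) hE z
  rw [rs_id, rs_id] at h
  exact h

end Groth.Agent.AlgSpB.FPCover
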