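import Groth.Agent.AlgSpB.FPCover.LocalFP
import Groth.Agent.AlgSpQC.Extension

/-!
# Fibre products and quotients of modules, on sections
-/

universe u

open CategoryTheory CategoryTheory.Limits AlgebraicGeometry Opposite

set_option backward.isDefEq.respectTransparency false
set_option backward.isDefEq.respectTransparency.types false
set_option autoImplicit false
set_option maxHeartbeats 800000

namespace Groth.Agent.AlgSpB.FPCover

open _root_.AlgSp
open Groth.Agent.AlgSpQC
open Groth.Agent.AlgSpB.SubQC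

variable {S : Scheme.{u}} {X : Space S}

theorem hs_sub {M N : ModEt X.obj} (φ ψ : M ⟶ N) (E : EtOver X.obj) (m : sectModEt M E) :
    hs (φ - ψ) E m = hs φ E m - hs ψ E m := rfl

variable {A B C : ModEt X.obj} (a : A ⟶ C) (b : B ⟶ C)

theorem biprod_decomp (E : EtOver X.obj) (x : sectModEt (A ⊞ B) E) :
    x = hs biprod.inl E (hs biprod.fst E x) + hs biprod.inr E (hs biprod.snd E x) := by
  have h := congrArg (fun φ : A ⊞ B ⟶ A ⊞ B => hs φ E x) (biprod.total (X := A) (Y := B))
  simp only [hs_add, hs_comp, hs_id] at h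
  exact h.symm

theorem hs_of_comp_eq {P Q R : ModEt X.obj} {f : P ⟶ Q} {g : Q ⟶ R} {k : P ⟶ R} (h : f ≫ g = k)
    (E : EtOver X.obj) (m : sectModEt P E) : hs g E (hs f E m) = hs k E m :=
  (hs_comp f g E m).symm.trans (congrArg (fun t : P ⟶ R => hs t E m) h)

/-- Fibre product of modules. -/
noncomputable abbrev fib : ModEt X.obj := kernel (biprod.fst ≫ a - biprod.snd ≫ b)

/-- First projection. -/
noncomputable def fibFst : fib a b ⟶ A := kernel.ι _ ≫ biprod.fst

/-- Second projection. -/
noncomputable def fibSnd : fib a b ⟶ B := kernel.ι _ ≫ biprod.snd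

theorem fib_w : fibFst a b ≫ a = fibSnd a b ≫ b := by
  have := kernel.condition (biprod.fst ≫ a - biprod.snd ≫ b)
  rw [Preadditive.comp_sub, sub_eq_zero] at this
  simpa [fibFst, fibSnd] using this

theorem fib_cond {E : EtOver X.obj} (y : sectModEt (fib a b) E) :
    hs a E (hs (fibFst a b) E y) = hs b E (hs (fibSnd a b) E y) :=
  (hs_of_comp_eq (fib_w a b) E y).trans (hs_comp _ _ E y)

theorem fib_ext {E : EtOver X.obj} {y z : sectModEt (fib a b) E}
    (h1 : hs (fibFst a b) E y = hs (fibFst a b) E z) (h2 : hs (fibSnd a b) E y = hs (fibSnd a b) E z) :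
    y = z := by
  apply hs_injective (kernel.ι (biprod.fst ≫ a - biprod.snd ≫ b)) E
  rw [fibFst, hs_comp, hs_comp] at h1
  rw [fibSnd, hs_comp, hs_comp] at h2
  rw [biprod_decomp E (hs _ E y), biprod_decomp E (hs _ E z), h1, h2]

theorem exists_fib {E : EtOver X.obj} (x : sectModEt A E) (y : sectModEt B E) (h : hs a E x = hs b E y) :
    ∃ z : sectModEt (fib a b) E, hs (fibFst a b) E z = x ∧ hs (fibSnd a b) E z = y := by
  have e1 : hs biprod.fst E (hs (biprod.inl : A ⟶ A ⊞ B) E x + hs biprod.inr E y) = x := by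
    rw [map_add, hs_of_comp_eq biprod.inl_fst, hs_of_comp_eq biprod.inr_fst, hs_id, hs_zero, add_zero]
  have e2 : hs biprod.snd E (hs (biprod.inl : A ⟶ A ⊞ B) E x + hs biprod.inr E y) = y := by
    rw [map_add, hs_of_comp_eq biprod.inl_snd, hs_of_comp_eq biprod.inr_snd, hs_id, hs_zero, zero_add]
  obtain ⟨z, hz⟩ := exists_kernel_hs (biprod.fst ≫ a - biprod.snd ≫ b)
    (hs (biprod.inl : A ⟶ A ⊞ B) E x + hs biprod.inr E y) (by rw [hs_sub, hs_comp, hs_comp, e1, e2, h, sub_self])
  exact ⟨z, by rw [fibFst, hs_comp, hz, e1], by rw [fibSnd, hs_comp, hz, e2]⟩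

theorem isQuasicoherent_biprod [A.IsQuasicoherent] [A.IsFiniteType] [B.IsQuasicoherent] :
    (A ⊞ B).IsQuasicoherent := by
  let T : ShortComplex (ModEt X.obj) := ShortComplex.mk (biprod.inr : B ⟶ A ⊞ B) biprod.fst biprod.inr_fst
  have hT : T.ShortExact := ShortComplex.Splitting.shortExact
    { r := biprod.snd
      s := biprod.inl
      f_r := biprod.inr_snd
      s_g := biprod.inl_fst
      id := by
        change biprod.snd ≫ biprod.inr + biprod.fst ≫ biprod.inl = 𝟙 _
        rw [add_comm]
        exact biprod.total }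
  have : T.X₁.IsQuasicoherent := ‹B.IsQuasicoherent›
  have : T.X₃.IsQuasicoherent := ‹A.IsQuasicoherent›
  exact isQuasicoherent_extension (T := T) hT fun E _ => finite_sections (M := A) E

theorem isQuasicoherent_fib [A.IsQuasicoherent] [A.IsFiniteType] [B.IsQuasicoherent] [C.IsQuasicoherent] :
    (fib a b).IsQuasicoherent :=
  have := isQuasicoherent_biprod (A := A) (B := B)
  isQuasicoherent_kernel _

variable {M N : ModEt X.obj}

/-- Sections killed by a quotient by a submodule come from the submodule. -/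
theorem exists_of_quot_eq_zero (φ : M ⟶ N) [Mono φ] (E : EtOver X.obj) (n : sectModEt N E)
    (h : hs (cokernel.π φ) E n = 0) : ∃ m, hs φ E m = n :=
  ((exact_hs (ShortComplex.mk φ (cokernel.π φ) (cokernel.condition φ))
    (ShortComplex.exact_of_g_is_cokernel _ (cokernelIsCokernel φ)) E) n).1 h

theorem quot_eq_zero (φ : M ⟶ N) (E : EtOver X.obj) (m : sectModEt M E) :
    hs (cokernel.π φ) E (hs φ E m) = 0 :=
  (hs_of_comp_eq (cokernel.condition φ) E m).trans (hs_zero E m)

theorem ker_quot (φ : M ⟶ N) [Mono φ] (E : EtOver X.obj) :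
    LinearMap.ker (hs (cokernel.π φ) E) = LinearMap.range (hs φ E) := by
  ext n
  exact ⟨fun h => exists_of_quot_eq_zero φ E n h, fun ⟨m, hm⟩ => hm ▸ quot_eq_zero φ E m⟩

theorem finitePresentation_quot [N.IsQuasicoherent] [M.IsQuasicoherent] [M.IsFiniteType] (φ : M ⟶ N) [Mono φ]
    (E : EtOver X.obj) [IsAffine E.obj.left.left] [Module.FinitePresentation (gr E) (sectModEt N E)] :
    Module.FinitePresentation (gr E) (sectModEt (cokernel φ) E) := by
  have := isQuasicoherent_cokernel φ
  have := finite_sections (M := M) E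
  refine Module.finitePresentation_of_surjective (hs (cokernel.π φ) E) (hs_surjective (cokernel.π φ) E) ?_
  rw [ker_quot]
  exact Submodule.fg_range _

theorem isFiniteType_of_epi [M.IsQuasicoherent] [M.IsFiniteType] [N.IsQuasicoherent] (π : M ⟶ N) [Epi π] :
    N.IsFiniteType :=
  isFiniteType_of_finite fun E _ =>
    have := finite_sections (M := M) E
    Module.Finite.of_surjective (hs π E) (hs_surjective π E)

theorem hs_ι_eq (P : LocalSub M) (E : EtOver X.obj) (x : sectModEt P.mod E) :
    hs P.ι E x = (show sectModEt M E from x.1) := rfl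

theorem exists_mod_of_mem (P : LocalSub M) {E : EtOver X.obj} {m : sectModEt M E} (h : m ∈ P.carrier E) :
    ∃ x : sectModEt P.mod E, hs P.ι E x = m := ⟨⟨m, h⟩, rfl⟩

theorem mem_of_hs_ι (P : LocalSub M) (E : EtOver X.obj) (x : sectModEt P.mod E) :
    hs P.ι E x ∈ P.carrier E := x.2

end Groth.Agent.AlgSpB.FPCover
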