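import Groth.Agent.AlgSpB.FPCover.Cover
import Groth.Agent.AlgSpB.SubQC.FinSub
import Groth.Agent.AlgSpB.SubQC.Extend

/-!
# A module of finite type as a colimit of modules of finite presentation with surjective transition maps
-/

universe u

open CategoryTheory CategoryTheory.Limits AlgebraicGeometry Opposite

set_option backward.isDefEq.respectTransparency false
set_option backward.isDefEq.respectTransparency.types false
set_option autoImplicit false
set_option maxHeartbeats 1000000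

namespace Groth.Agent.AlgSpB.FPCover

open _root_.AlgSp
open Groth.Agent.AlgSpQC
open Groth.Agent.AlgSpB.SubQC

section Generic

variable {C : Type*} [Category C] [Abelian C] {J : Type*} [Preorder J] {A : J → C} {N M : C}
  (μ : ∀ j, A j ⟶ N) (hle : ∀ {i j : J}, i ≤ j → μ i ≫ cokernel.π (μ j) = 0)

/-- The system of quotients by an increasing family. -/
noncomputable def quotSys : J ⥤ C where
  obj j := cokernel (μ j)
  map {i j} f := cokernel.desc (μ i) (cokernel.π (μ j)) (hle f.le)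
  map_id i := (cancel_epi (cokernel.π (μ i))).1 (by simp)
  map_comp {i j k} f g := (cancel_epi (cokernel.π (μ i))).1 (by simp)

theorem π_quotSys_map {i j : J} (f : i ⟶ j) :
    cokernel.π (μ i) ≫ (quotSys μ hle).map f = cokernel.π (μ j) := cokernel.π_desc _ _ _

theorem epi_quotSys {i j : J} (f : i ⟶ j) : Epi ((quotSys μ hle).map f) :=
  epi_of_epi_fac (π_quotSys_map μ hle f)

variable (π : N ⟶ M) (hπ : ∀ j, μ j ≫ π = 0)

/-- The cocone on a quotient. -/
noncomputable def quotCocone : quotSys μ hle ⟶ (Functor.const J).obj M where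
  app j := cokernel.desc (μ j) π (hπ j)
  naturality i j f := by
    simp only [Functor.const_obj_map]
    refine (cancel_epi (cokernel.π (μ i))).1 ?_
    rw [← Category.assoc, π_quotSys_map, ← Category.assoc]
    simp [quotSys]

theorem quotSys_indep [IsDirected J (· ≤ ·)] (s : Cocone (quotSys μ hle)) (i j : J) :
    cokernel.π (μ i) ≫ s.ι.app i = cokernel.π (μ j) ≫ s.ι.app j := by
  obtain ⟨k, hi, hj⟩ := directed_of (· ≤ ·) i j
  rw [← s.w (homOfLE hi), ← s.w (homOfLE hj), ← Category.assoc, ← Category.assoc, π_quotSys_map, π_quotSys_map]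

/-- The colimit of the quotients. -/
noncomputable def quotIsColimit [IsDirected J (· ≤ ·)] [Nonempty J] [Epi π]
    (hkill : ∀ {T : C} (v : N ⟶ T), (∀ j, μ j ≫ v = 0) → kernel.ι π ≫ v = 0) :
    IsColimit (Cocone.mk M (quotCocone μ hle π hπ)) :=
  let j₀ : J := Classical.arbitrary J
  have h0 : ∀ s : Cocone (quotSys μ hle), kernel.ι π ≫ cokernel.π (μ j₀) ≫ s.ι.app j₀ = 0 := fun s =>
    hkill _ fun j => by rw [← quotSys_indep μ hle s j j₀, cokernel.condition_assoc, zero_comp]
  { desc := fun s => Abelian.epiDesc π _ (h0 s)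
    fac := fun s j => by
      refine (cancel_epi (cokernel.π (μ j))).1 ?_
      refine ((Category.assoc _ _ _).symm.trans (congrArg (· ≫ _) (cokernel.π_desc _ _ _))).trans ?_
      exact (Abelian.comp_epiDesc _ _ _).trans (quotSys_indep μ hle s j j₀).symm
    uniq := fun s m hm => by
      refine (cancel_epi π).1 (Eq.trans ?_ (Abelian.comp_epiDesc _ _ _).symm)
      rw [← hm j₀, ← Category.assoc]
      exact congrArg (· ≫ m) (cokernel.π_desc _ _ _).symm }

end Generic

variable {S : Scheme.{u}} {X : Space S}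

theorem hom_ext_affine {M N : ModEt X.obj} {a b : M ⟶ N}
    (h : ∀ E : EtOver X.obj, IsAffine E.obj.left.left → ∀ m : sectModEt M E, hs a E m = hs b E m) : a = b := by
  ext E m
  change hs a E.unop m = hs b E.unop m
  refine SubQC.eq_of_forall_affine fun W g hW => ?_
  rw [← hs_rs, ← hs_rs, h W hW]

theorem epi_of_surjective_affine {M N : ModEt X.obj} (π : M ⟶ N)
    (h : ∀ E : EtOver X.obj, IsAffine E.obj.left.left → Function.Surjective (hs π E)) : Epi π :=
  ⟨fun a b e => hom_ext_affine fun E hE n => by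
    obtain ⟨m, rfl⟩ := h E hE n
    rw [hs_of_comp_eq e E m]
    exact hs_comp π b E m⟩

variable {M : ModEt X.obj}

/-- Submodules of finite type. -/
abbrev FinPart (K : ModEt X.obj) : Type (u + 1) :=
  {P : LocalSub K // Gen P ∧ ∀ E : EtOver X.obj, IsAffine E.obj.left.left → (P.carrier E).FG}

noncomputable instance (K : ModEt X.obj) : PartialOrder (FinPart K) :=
  PartialOrder.lift (fun P => P.1.carrier) fun P Q h => by
    obtain ⟨⟨c, _, _⟩, _⟩ := P
    obtain ⟨⟨c', _, _⟩, _⟩ := Q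
    change c = c' at h
    subst h
    rfl

theorem finPart_exists_upper [QuasiSeparatedSpace ↥S] (hqc : IsQuasiCompactSp X.obj)
    (hqs : IsQuasiSeparatedSp X.obj) {K : ModEt X.obj} [K.IsQuasicoherent] {ι : Type u} [Finite ι]
    (P : ι → FinPart K) (E : EtOver X.obj) [IsAffine E.obj.left.left] (k : sectModEt K E) :
    ∃ Q : FinPart K, (∀ i, P i ≤ Q) ∧ k ∈ Q.1.carrier E := by
  classical
  obtain ⟨E₀, hE₀, h₀⟩ := SubQC.exists_atlas_obj (U := X) hqc
  have hfin : ∀ i, ∃ (n : ℕ) (g : Fin n → sectModEt K E₀),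
      Submodule.span (gr E₀) (Set.range g) = (P i).1.carrier E₀ := fun i =>
    Submodule.fg_iff_exists_fin_generating_family.1 ((P i).2.2 _ hE₀)
  choose n g hg using hfin
  obtain ⟨J, hJ, -, hJfg, hJm⟩ := exists_fg_le (M := K) hqc hqs gen_topSub
    (κ := (Σ i, ULift.{u} (Fin (n i))) ⊕ PUnit.{u + 1})
    (fun l => Sum.elim (fun _ => E₀) (fun _ => E) l)
    (fun l => by rcases l with l | l <;> assumption)
    (fun l => match l with | .inl l => g l.1 l.2.down | .inr _ => k) (fun l => trivial)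
  refine ⟨⟨J, hJ, hJfg⟩, fun i W z hz => ?_, hJm (.inr PUnit.unit)⟩
  have := isQuasicoherent_of_gen (P i).2.1
  have hmem : ∀ y : sectModEt (P i).1.mod E₀,
      hs (P i).1.ι E₀ y ∈ J.carrier E₀ := by
    intro y
    refine Submodule.span_le.2 ?_ ((hg i).symm ▸ (mem_of_hs_ι (P i).1 _ y) :
      hs (P i).1.ι E₀ y ∈ Submodule.span (gr E₀) (Set.range (g i)))
    rintro _ ⟨a, rfl⟩
    exact hJm (.inl ⟨i, ⟨a⟩⟩)
  exact mem_of_chart (P i).1.ι h₀ hmem W ⟨z, hz⟩

theorem hs_π_ι_eq_zero {K N : ModEt X.obj} (b : K ⟶ N) (P : LocalSub K) {E : EtOver X.obj}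
    {k : sectModEt K E} (h : k ∈ P.carrier E) : hs (cokernel.π (P.ι ≫ b)) E (hs b E k) = 0 := by
  obtain ⟨x, hx⟩ := exists_mod_of_mem P h
  exact hs_cokernel_comp_eq_zero P.ι b E x k hx

theorem comp_quot_eq_zero {K N : ModEt X.obj} (b : K ⟶ N) (P Q : LocalSub K)
    (h : ∀ E, P.carrier E ≤ Q.carrier E) : (P.ι ≫ b) ≫ cokernel.π (Q.ι ≫ b) = 0 :=
  hom_ext_affine fun E _ x => by
    rw [hs_comp, hs_comp, hs_zero]
    exact hs_π_ι_eq_zero b Q (h E (mem_of_hs_ι P E x))

theorem comp_eq_zero_of_local {K N T : ModEt X.obj} (b : K ⟶ N) (v : N ⟶ T)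
    (h : ∀ E : EtOver X.obj, IsAffine E.obj.left.left → ∀ k : sectModEt K E, ∃ (P : LocalSub K)
      (w : cokernel (P.ι ≫ b) ⟶ T), k ∈ P.carrier E ∧ cokernel.π (P.ι ≫ b) ≫ w = v) : b ≫ v = 0 :=
  hom_ext_affine fun E hE k => by
    obtain ⟨P, w, hk, hw⟩ := h E hE k
    rw [hs_comp, ← hw, hs_comp, hs_π_ι_eq_zero b P hk, map_zero, hs_zero]

theorem exists_colimit_fp [QuasiSeparatedSpace ↥S] (hqc : IsQuasiCompactSp X.obj) (hqs : IsQuasiSeparatedSp X.obj)
    (M : ModEt X.obj) [M.IsQuasicoherent] [M.IsFiniteType] :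
    ∃ (J : Type (u + 1)) (_ : PartialOrder J) (_ : IsDirected J (· ≤ ·)) (_ : Nonempty J)
      (D : J ⥤ ModEt X.obj) (ι : D ⟶ (Functor.const J).obj M),
      Nonempty (IsColimit (Cocone.mk M ι)) ∧ (∀ j, (D.obj j).IsFinitePresentation) ∧
        ∀ (j j' : J) (h : j ⟶ j'), Epi (D.map h) := by
  obtain ⟨N, π, hN, hπ⟩ := exists_fp_cover hqc hqs M
  have : Epi π := epi_of_surjective_affine π hπ
  have := isQuasicoherent_kernel π
  obtain ⟨U, p, hU, hp, -⟩ := AlgSpEN.exists_affine_atlas X hqc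
  have hE₀ : IsAffine (EtOver.mk p hp).obj.left.left := hU
  have hne : Nonempty (FinPart (kernel π)) :=
    ⟨(finPart_exists_upper hqc hqs (PEmpty.elim : PEmpty.{u + 1} → FinPart (kernel π)) (EtOver.mk p hp) 0).choose⟩
  have hdir : IsDirected (FinPart (kernel π)) (· ≤ ·) := ⟨fun P Q => by
    obtain ⟨R, hR, -⟩ := finPart_exists_upper hqc hqs (fun b : ULift.{u} Bool => if b.down then P else Q)
      (EtOver.mk p hp) 0
    exact ⟨R, hR ⟨true⟩, hR ⟨false⟩⟩⟩
  let μ : ∀ P : FinPart (kernel π), P.1.mod ⟶ N := fun P => P.1.ι ≫ kernel.ι π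
  have hle : ∀ {P Q : FinPart (kernel π)}, P ≤ Q → μ P ≫ cokernel.π (μ Q) = 0 := fun {P Q} h =>
    comp_quot_eq_zero (kernel.ι π) P.1 Q.1 h
  have hkill : ∀ {T : ModEt X.obj} (v : N ⟶ T), (∀ P, μ P ≫ v = 0) → kernel.ι π ≫ v = 0 := fun {T} v hv =>
    comp_eq_zero_of_local (kernel.ι π) v fun E hE k => by
      obtain ⟨P, -, hk⟩ := finPart_exists_upper hqc hqs
        (PEmpty.elim : PEmpty.{u + 1} → FinPart (kernel π)) E k
      exact ⟨P.1, cokernel.desc (μ P) v (hv P), hk, cokernel.π_desc _ _ _⟩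
  refine ⟨FinPart (kernel π), inferInstance, hdir, hne, quotSys μ (fun h => hle h),
    quotCocone μ (fun h => hle h) π (fun P => by simp [μ]),
    ⟨quotIsColimit μ (fun h => hle h) π (fun P => by simp [μ]) hkill⟩, fun P => ?_,
    fun P Q f => epi_quotSys μ (fun h => hle h) f⟩
  have := isQuasicoherent_of_gen P.2.1
  have := isFiniteType_mod P.2.1 P.2.2
  have : ((quotSys μ (fun h => hle h)).obj P).IsQuasicoherent := isQuasicoherent_cokernel (μ P)
  refine isFinitePresentation_of_finitePresentation fun E hE => ?_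
  have := finitePresentation_sections (M := N) E
  have : Mono (μ P) := inferInstanceAs (Mono (P.1.ι ≫ kernel.ι π))
  exact finitePresentation_quot (μ P) E

end Groth.Agent.AlgSpB.FPCover
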