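import Groth.Agent.AlgSpB.FPCover.GlueChart

/-!
# Modules of finite type are quotients of modules of finite presentation
-/

universe u

open CategoryTheory CategoryTheory.Limits AlgebraicGeometry Opposite

set_option backward.isDefEq.respectTransparency false
set_option backward.isDefEq.respectTransparency.types false
set_option autoImplicit false
set_option maxHeartbeats 2000000

namespace Groth.Agent.AlgSpB.FPCover

open _root_.AlgSp
open Groth.Agent.AlgSpQC
open Groth.Agent.AlgSpB.SubQC

variable {S : Scheme.{u}} {X : Space S}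

theorem finitePresentation_of_bijective' {M N : ModEt X.obj} (φ : M ⟶ N) (E : EtOver X.obj)
    (h : Function.Bijective (hs φ E)) [Module.FinitePresentation (gr E) (sectModEt N E)] :
    Module.FinitePresentation (gr E) (sectModEt M E) :=
  let e := (LinearEquiv.ofBijective (hs φ E) h).symm
  Module.finitePresentation_of_surjective e.toLinearMap e.surjective
    (by rw [LinearMap.ker_eq_bot.2 e.injective]; exact Submodule.fg_bot)

theorem finite_of_finitePresentation {M : ModEt X.obj} (E : EtOver X.obj)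
    (h : Module.FinitePresentation (gr E) (sectModEt M E)) : Module.Finite (gr E) (sectModEt M E) :=
  inferInstance

/-- Pieces of an object over a union of an open set and the image of a chart object. -/
theorem exists_piece {A : Set (Points X.obj)} (hA : IsOpen A) (T : EtOver X.obj) (E : EtOver X.obj)
    (hE : InA (A ∪ Set.range (Points.ofPt T.obj.hom)) E) (x : E.obj.left.left) :
    ∃ (W : EtOver X.obj) (f : W ⟶ E), IsAffine W.obj.left.left ∧ x ∈ Set.range f.hom.left.left ∧
      (InA A W ∨ Nonempty (W ⟶ T)) := by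
  by_cases hx : Points.ofPt E.obj.hom x ∈ A
  · obtain ⟨W, f, hW, hxf, hfA, -⟩ := exists_affine_nbhd E
      ⟨Points.ofPt E.obj.hom ⁻¹' A, hA.preimage (Points.continuous_ofPt _)⟩ (x := x) hx
    refine ⟨W, f, hW, hxf, Or.inl fun w => ?_⟩
    rw [← CostructuredArrow.w f.hom, AlgSpB.ofPt_map_comp]
    exact hfA ⟨w, rfl⟩
  · rcases hE x with h | ⟨v, hv⟩
    · exact absurd h hx
    obtain ⟨W, a, b, w, hW, hw, -⟩ := exists_common_affine hv.symm
    exact ⟨W, a, hW, ⟨w, hw⟩, Or.inr ⟨b⟩⟩

section Step

variable {U : Space S} {j : U ⟶ X} (hj : RepWith @Etale j.hom)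

theorem fp_step_aux [QuasiSeparatedSpace ↥S] (hqc : IsQuasiCompactSp X.obj) (hqs : IsQuasiSeparatedSp X.obj)
    (hUc : IsQuasiCompactSp U.obj) (hUs : IsQuasiSeparatedSp U.obj) (hjs : IsQuasiSeparatedMor j.hom)
    {A : Set (Points X.obj)} (hA : IsOpen A) (hAc : IsCompact A) {T₀ : EtOver U.obj} [IsAffine T₀.obj.left.left]
    (h₀ : IsTerminal T₀) (hinj : AlgSpEN.InjOutside ((post hj).obj T₀).obj.hom A)
    {M N : ModEt X.obj} [M.IsQuasicoherent] [N.IsQuasicoherent] [N.IsFiniteType] (π : N ⟶ M)
    (hπ : ∀ E : EtOver X.obj, IsAffine E.obj.left.left →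
      InA (A ∪ Set.range (Points.ofPt ((post hj).obj T₀).obj.hom)) E → Function.Surjective (hs π E))
    (hfp : ∀ E : EtOver X.obj, IsAffine E.obj.left.left → InA A E →
      Module.FinitePresentation (gr E) (sectModEt N E)) :
    ∃ (N' : ModEt X.obj) (π' : N' ⟶ M), N'.IsQuasicoherent ∧ N'.IsFiniteType ∧
      ∀ E : EtOver X.obj, IsAffine E.obj.left.left →
        InA (A ∪ Set.range (Points.ofPt ((post hj).obj T₀).obj.hom)) E →
          Function.Surjective (hs π' E) ∧ Module.FinitePresentation (gr E) (sectModEt N' E) := by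
  classical
  obtain ⟨Nv, ψ, hNv, hNvfp, hψs, hψ⟩ := exists_presented hj hUc hUs hqc hqs hA hAc h₀ hfp
  have hjc := isQuasiCompactMor_hom (j := j) hqs hUc
  have : ((pushModEt hj.1).obj Nv).IsQuasicoherent :=
    isQuasicoherent_push_qcqs (f := j.hom) hj.1 Nv hjc hjs
  have : ((pushModEt hj.1).obj ((Res hj).obj N)).IsQuasicoherent :=
    isQuasicoherent_push_qcqs (f := j.hom) hj.1 ((Res hj).obj N) hjc hjs
  have : (glueMod hj ψ).IsQuasicoherent := isQuasicoherent_fib _ _
  let B := A ∪ Set.range (Points.ofPt ((post hj).obj T₀).obj.hom)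
  let T := (post hj).obj T₀
  have hT : IsAffine T.obj.left.left := ‹IsAffine T₀.obj.left.left›
  have hTB : InA B T := fun w => Or.inr ⟨w, rfl⟩
  let ρ : glueMod hj ψ ⟶ M := glueFst hj ψ ≫ π
  -- objects over the open part and objects over the chart
  have hin : ∀ E : EtOver X.obj, IsAffine E.obj.left.left → InA A E →
      Function.Surjective (hs ρ E) ∧ Module.FinitePresentation (gr E) (sectModEt (glueMod hj ψ) E) := by
    intro E hE hEA
    have hb := bijective_glueFst hj ψ hψ E hEA
    refine ⟨fun m => ?_, ?_⟩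
    · obtain ⟨a, ha⟩ := hπ E hE (fun w => Or.inl (hEA w)) m
      obtain ⟨z, hz⟩ := hb.2 a
      exact ⟨z, (hs_comp _ _ E z).trans (by rw [hz, ha])⟩
    · have := hfp E hE hEA
      exact finitePresentation_of_bijective' (glueFst hj ψ) E hb
  have hch : ∀ E : EtOver X.obj, IsAffine E.obj.left.left → (E ⟶ T) → ∀ x : E.obj.left.left,
      ∃ (W : EtOver X.obj) (f : W ⟶ E), IsAffine W.obj.left.left ∧ x ∈ Set.range f.hom.left.left ∧
        Function.Surjective (hs ρ W) ∧ Module.FinitePresentation (gr W) (sectModEt (glueMod hj ψ) W) := by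
    intro E hE b x
    obtain ⟨W', b', ι, ι', -, hι', -, hl⟩ := exists_lift_obj hj b
    have hW' : IsAffine W'.obj.left.left := hl.symm ▸ hE
    have hW'' : IsAffine ((post hj).obj W').obj.left.left := hW'
    refine ⟨(post hj).obj W', ι, hW'', ⟨ι'.hom.left.left x, ?_⟩, fun m => ?_, ?_⟩
    · change (ι' ≫ ι).hom.left.left x = x
      rw [hι']
      rfl
    · obtain ⟨a, ha⟩ := hπ ((post hj).obj W') hW'' (fun w => Or.inr ⟨((post hj).map b').hom.left.left w, by
        rw [← AlgSpB.ofPt_map_comp, CostructuredArrow.w ((post hj).map b').hom]⟩) m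
      obtain ⟨w, hw⟩ := hψs W' hW' (show sectModEt ((Res hj).obj N) W' from a)
      obtain ⟨z, hz⟩ := surjective_glueRes hj ψ hA h₀ hinj hψ W' w
      refine ⟨z, (hs_comp _ _ _ z).trans ?_⟩
      have e := glueFst_eq hj ψ W' z
      rw [hz, hw] at e
      exact (congrArg (hs π _) e).trans ha
    · have := hNvfp W' hW'
      exact finitePresentation_glue hj ψ hA h₀ hinj hψ W'
  have hall : ∀ E : EtOver X.obj, IsAffine E.obj.left.left → InA B E →
      Function.Surjective (hs ρ E) ∧ Module.FinitePresentation (gr E) (sectModEt (glueMod hj ψ) E) := by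
    intro E hE hEB
    have hloc : ∀ x : E.obj.left.left, ∃ (W : EtOver X.obj) (f : W ⟶ E), IsAffine W.obj.left.left ∧
        x ∈ Set.range f.hom.left.left ∧ Function.Surjective (hs ρ W) ∧
          Module.FinitePresentation (gr W) (sectModEt (glueMod hj ψ) W) := fun x => by
      obtain ⟨W, f, hW, ⟨w, hw⟩, h | ⟨⟨b⟩⟩⟩ := exists_piece hA T E hEB x
      · exact ⟨W, f, hW, ⟨w, hw⟩, hin W hW h⟩
      · obtain ⟨W₁, f₁, hW₁, ⟨w₁, hw₁⟩, h'⟩ := hch W hW b w
        exact ⟨W₁, f₁ ≫ f, hW₁, ⟨w₁, (congrArg f.hom.left.left hw₁).trans hw⟩, h'⟩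
    exact ⟨surjective_of_local ρ E fun x => by
        obtain ⟨W, f, h1, h2, h3, -⟩ := hloc x; exact ⟨W, f, h1, h2, h3⟩,
      finitePresentation_of_local E fun x => by
        obtain ⟨W, f, h1, h2, -, h4⟩ := hloc x; exact ⟨W, f, h1, h2, h4⟩⟩
  -- a submodule of finite type equal to everything over the larger part
  obtain ⟨κ, hκ, P, hP, hPA, hPc⟩ := exists_cover_compact hqc hA hAc
  have hOa : ∀ k : κ ⊕ PUnit.{u + 1}, IsAffine (Sum.elim P (fun _ => T) k).obj.left.left := by
    rintro (k | k)
    · exact hP k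
    · exact hT
  have hOf : ∀ k : κ ⊕ PUnit.{u + 1},
      Module.Finite (gr (Sum.elim P (fun _ => T) k)) (sectModEt (glueMod hj ψ) (Sum.elim P (fun _ => T) k)) := by
    rintro (k | k)
    · exact finite_of_finitePresentation _ (hin _ (hP k) (hPA k)).2
    · exact finite_of_finitePresentation _ (hall T hT hTB).2
  obtain ⟨J, hJ, hJfg, hJtop⟩ := exists_fg_top hqc hqs (M := glueMod hj ψ) (Sum.elim P fun _ => T) hOa hOf
  have := isQuasicoherent_of_gen hJ
  have := isFiniteType_mod hJ hJfg
  have hJbij : ∀ E : EtOver X.obj, IsAffine E.obj.left.left → InA B E → Function.Bijective (hs J.ι E) := by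
    intro E hE hEB
    refine ⟨hs_injective J.ι E, fun m => exists_mod_of_mem J ?_⟩
    have hpc : ∀ x : E.obj.left.left, ∃ (W : EtOver X.obj) (a : W ⟶ E) (k : κ ⊕ PUnit.{u + 1})
        (_ : W ⟶ Sum.elim P (fun _ => T) k), IsAffine W.obj.left.left ∧ x ∈ Set.range a.hom.left.left := by
      intro x
      rcases hEB x with h | ⟨v, hv⟩
      · obtain ⟨k, w, hw⟩ := hPc _ h
        obtain ⟨W, a, b, w', hW, hw', -⟩ := exists_common_affine (E := E) (E' := P k) (u := x) (u' := w) hw.symm
        exact ⟨W, a, .inl k, b, hW, w', hw'⟩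
      · obtain ⟨W, a, b, w', hW, hw', -⟩ := exists_common_affine (E := E) (E' := T) (u := x) (u' := v) hv.symm
        exact ⟨W, a, .inr PUnit.unit, b, hW, w', hw'⟩
    choose W a k b hW hx using hpc
    refine mem_carrier_of_family J a (fun x => ⟨x, hx x⟩) m fun x => ?_
    have := hW x
    have := hOa (k x)
    exact mem_carrier_of_top J (hJtop (k x)) (b x) _
  refine ⟨J.mod, J.ι ≫ ρ, inferInstance, inferInstance, fun E hE hEB => ⟨fun m => ?_, ?_⟩⟩
  · obtain ⟨z, hz⟩ := (hall E hE hEB).1 m
    obtain ⟨y, hy⟩ := (hJbij E hE hEB).2 z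
    exact ⟨y, (hs_comp _ _ E y).trans (by rw [hy, hz])⟩
  · have := (hall E hE hEB).2
    exact finitePresentation_of_bijective' J.ι E (hJbij E hE hEB)

end Step

/-- Improving finite presentation over one more chart. -/
theorem exists_fp_step [QuasiSeparatedSpace ↥S] (hqc : IsQuasiCompactSp X.obj) (hqs : IsQuasiSeparatedSp X.obj)
    {A : Set (Points X.obj)} (hA : IsOpen A) (hAc : IsCompact A) (EV : EtOver X.obj) [IsAffine EV.obj.left.left]
    (hinj : AlgSpEN.InjOutside EV.obj.hom A) {M N : ModEt X.obj} [M.IsQuasicoherent] [N.IsQuasicoherent]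
    [N.IsFiniteType] (π : N ⟶ M)
    (hπ : ∀ E : EtOver X.obj, IsAffine E.obj.left.left → InA (A ∪ Set.range (Points.ofPt EV.obj.hom)) E →
      Function.Surjective (hs π E))
    (hfp : ∀ E : EtOver X.obj, IsAffine E.obj.left.left → InA A E →
      Module.FinitePresentation (gr E) (sectModEt N E)) :
    ∃ (N' : ModEt X.obj) (π' : N' ⟶ M), N'.IsQuasicoherent ∧ N'.IsFiniteType ∧
      ∀ E : EtOver X.obj, IsAffine E.obj.left.left → InA (A ∪ Set.range (Points.ofPt EV.obj.hom)) E →
        Function.Surjective (hs π' E) ∧ Module.FinitePresentation (gr E) (sectModEt N' E) := by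
  let U : Space S := ⟨(yon S).obj EV.obj.left, IsAlgSpace.yon_obj _⟩
  let j : U ⟶ X := ObjectProperty.homMk EV.obj.hom
  have hj : RepWith @Etale j.hom := EV.property
  let T₀ : EtOver U.obj := EtOver.mk (𝟙 U.obj) ((RepWith @Etale).id_mem _)
  have hT : IsAffine T₀.obj.left.left := ‹IsAffine EV.obj.left.left›
  let h₀ : IsTerminal T₀ := IsTerminal.ofUniqueHom
    (fun E => EtOver.homMk ((yon S).preimage E.obj.hom) ((Category.comp_id _).trans ((yon S).map_preimage _)))
    (fun E m => EtOver.hom_ext _ _ ((yon S).map_injective (by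
      refine Eq.trans ?_ ((yon S).map_preimage E.obj.hom).symm
      exact (Category.comp_id _).symm.trans (CostructuredArrow.w m.hom))))
  have hhom : ((post hj).obj T₀).obj.hom = EV.obj.hom := Category.id_comp _
  have : CompactSpace EV.obj.left.left := inferInstance
  have hr : Set.range (Points.ofPt ((post hj).obj T₀).obj.hom) = Set.range (Points.ofPt EV.obj.hom) := by
    rw [hhom]
  rw [← hr] at hπ ⊢
  exact fp_step_aux hj hqc hqs (Groth.Agent.AlgSp.isQuasiCompactSp_yon EV.obj.left)
    (Groth.Agent.AlgSp.LimAffineMor.isQuasiSeparatedSp_yon EV.obj.left) (isQuasiSeparatedMor_of_affine EV.obj.hom) hA hAc h₀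
    (hhom.symm ▸ hinj) π hπ hfp

/-- A module of finite type is a quotient of a module of finite presentation. -/
theorem exists_fp_cover [QuasiSeparatedSpace ↥S] (hqc : IsQuasiCompactSp X.obj) (hqs : IsQuasiSeparatedSp X.obj)
    (M : ModEt X.obj) [M.IsQuasicoherent] [M.IsFiniteType] :
    ∃ (N : ModEt X.obj) (π : N ⟶ M), N.IsFinitePresentation ∧
      ∀ E : EtOver X.obj, IsAffine E.obj.left.left → Function.Surjective (hs π E) := by
  let Q : Set (Points X.obj) → Prop := fun A =>
    ∃ (N : ModEt X.obj) (π : N ⟶ M), N.IsQuasicoherent ∧ N.IsFiniteType ∧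
      ∀ E : EtOver X.obj, IsAffine E.obj.left.left → InA A E →
        Function.Surjective (hs π E) ∧ Module.FinitePresentation (gr E) (sectModEt N E)
  have hQ : Q Set.univ := by
    refine AlgSpEN.openInduction X hqc hqs ∅ isOpen_empty isCompact_empty Q
      ⟨M, 𝟙 M, inferInstance, inferInstance, fun E hE hA => ?_⟩ ?_
    · have : IsEmpty E.obj.left.left := ⟨fun w => hA w⟩
      have : Subsingleton (gr E) := CommRingCat.subsingleton_of_isTerminal
        ((by rw [show (⊤ : E.obj.left.left.Opens) = ⊥ from Subsingleton.elim _ _]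
             exact E.obj.left.left.sheaf.isTerminalOfEmpty) : IsTerminal Γ(E.obj.left.left, ⊤))
      have : Subsingleton (sectModEt M E) := Module.subsingleton (gr E) _
      exact ⟨fun m => ⟨m, rfl⟩, Module.finitePresentation_of_surjective
        (0 : (Fin 0 → gr E) →ₗ[gr E] sectModEt M E) (fun m => ⟨0, Subsingleton.elim _ _⟩)
        (by rw [Subsingleton.elim (LinearMap.ker _) ⊥]; exact Submodule.fg_bot)⟩
    · intro A V f hAo hAc _ hV hf hinj hQA
      obtain ⟨N, π, h1, h2, h3⟩ := hQA
      have : IsAffine (EtOver.mk f hf).obj.left.left := hV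
      obtain ⟨N₂, π₂, g1, g2, g3, g4⟩ := exists_surj_step hqc hqs hAo hAc (EtOver.mk f hf) π
        (fun E hE hEA => (h3 E hE hEA).1)
      exact exists_fp_step hqc hqs hAo hAc (EtOver.mk f hf) hinj π₂ g3
        (fun E hE hEA => g4 E hE hEA (h3 E hE hEA).2)
  obtain ⟨N, π, h1, h2, h3⟩ := hQ
  exact ⟨N, π, isFinitePresentation_of_finitePresentation fun E hE => (h3 E hE fun _ => trivial).2,
    fun E hE => (h3 E hE fun _ => trivial).1⟩

end Groth.Agent.AlgSpB.FPCover
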