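import Groth.Agent.AlgSpB.SubQC.FinSub
import Groth.Agent.AlgSpD.EtSite
import Groth.Agent.AlgSpB.Open
import Groth.Prelude.Def_AlgSpOX2
import Mathlib.Algebra.Category.ModuleCat.Sheaf.PullbackContinuous

/-!
# Modules on an etale chart: restriction and direct image
-/

universe u

open CategoryTheory CategoryTheory.Limits AlgebraicGeometry Opposite

set_option backward.isDefEq.respectTransparency false
set_option backward.isDefEq.respectTransparency.types false
set_option autoImplicit false
set_option maxHeartbeats 800000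

namespace Groth.Agent.AlgSpB.FPCover

open _root_.AlgSp
open Groth.Agent.AlgSpQC
open Groth.Agent.AlgSpB.SubQC

variable {S : Scheme.{u}} {U X : Space S} {j : U ⟶ X} (hj : RepWith @Etale j.hom)

include hj in
theorem etale_of_chart : IsEtaleMor j.hom :=
  fun _ _ hφ => (repWith_isMultiplicative (S := S) @Etale).comp_mem _ _ hφ hj

/-- Objects of the site of the open subspace as objects of the site. -/
noncomputable abbrev post : EtOver U.obj ⥤ EtOver X.obj := EtOver.postcomp j.hom (etale_of_chart hj)

instance continuous_post : (post hj).IsContinuous (etTop U.obj) (etTop X.obj) :=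
  Groth.Agent.AlgSpD.postcomp_isContinuous _ _

/-- The structure sheaf restricts to the structure sheaf. -/
noncomputable def resRingHom :
    OEtRing U.obj ⟶ ((post hj).sheafPushforwardContinuous RingCat.{u + 1} (etTop U.obj) (etTop X.obj)).obj (OEtRing X.obj) :=
  ObjectProperty.homMk
    { app := fun E => 𝟙 ((OEtRing U.obj).obj.obj E)
      naturality := fun E E' g => (Category.comp_id _).trans (Category.id_comp _).symm }

/-- Restriction of modules to the open subspace. -/
noncomputable abbrev Res : ModEt X.obj ⥤ ModEt U.obj := SheafOfModules.pushforward.{u + 1} (resRingHom hj)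

/-- The unit of the adjunction. -/
noncomputable def unitLeft (E : EtOver U.obj) : E.obj.left ⟶ hj.1.pullback ((post hj).obj E).obj.hom :=
  hj.1.lift E.obj.hom (𝟙 E.obj.left) (by
    change E.obj.hom ≫ j.hom = (yon S).map (𝟙 E.obj.left) ≫ E.obj.hom ≫ j.hom
    exact ((congrArg (· ≫ E.obj.hom ≫ j.hom) (CategoryTheory.Functor.map_id (yon S) E.obj.left)).trans
      (Category.id_comp _)).symm)

theorem unitLeft_fst (E : EtOver U.obj) :
    (yon S).map (unitLeft hj E) ≫ hj.1.fst ((post hj).obj E).obj.hom = E.obj.hom := hj.1.lift_fst _ _ _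

theorem unitLeft_snd (E : EtOver U.obj) : unitLeft hj E ≫ hj.1.snd ((post hj).obj E).obj.hom = 𝟙 E.obj.left :=
  hj.1.lift_snd _ _ _

/-- The unit of the adjunction. -/
noncomputable def unitApp (E : EtOver U.obj) : E ⟶ (EtOver.bc hj.1).obj ((post hj).obj E) :=
  EtOver.homMk (unitLeft hj E) (unitLeft_fst hj E)

/-- The counit of the adjunction. -/
noncomputable def counitApp (E : EtOver X.obj) : (post hj).obj ((EtOver.bc hj.1).obj E) ⟶ E :=
  EtOver.homMk (hj.1.snd E.obj.hom) (hj.1.isPullback E.obj.hom).w.symm

theorem unit_natural {E E' : EtOver U.obj} (g : E ⟶ E') :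
    g ≫ unitApp hj E' = unitApp hj E ≫ (EtOver.bc hj.1).map ((post hj).map g) := by
  refine EtOver.hom_ext _ _ (hj.1.hom_ext ?_ ?_)
  · change (yon S).map (g.hom.left ≫ unitLeft hj E') ≫ hj.1.fst ((post hj).obj E').obj.hom =
      (yon S).map (unitLeft hj E ≫ (EtOver.bcMap hj.1 ((post hj).map g)).hom.left) ≫ hj.1.fst ((post hj).obj E').obj.hom
    refine Eq.trans ?_ (((congrArg (· ≫ _) ((yon S).map_comp _ _)).trans (Category.assoc _ _ _)).trans
      ((congrArg (_ ≫ ·) (EtOver.map_bcMap_fst hj.1 ((post hj).map g))).trans (unitLeft_fst hj E))).symm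
    exact ((congrArg (· ≫ _) ((yon S).map_comp _ _)).trans (Category.assoc _ _ _)).trans
      ((congrArg (_ ≫ ·) (unitLeft_fst hj E')).trans (EtOver.w g))
  · change (g.hom.left ≫ unitLeft hj E') ≫ hj.1.snd ((post hj).obj E').obj.hom =
      (unitLeft hj E ≫ (EtOver.bcMap hj.1 ((post hj).map g)).hom.left) ≫ hj.1.snd ((post hj).obj E').obj.hom
    refine Eq.trans ?_ ((Category.assoc _ _ _).trans
      ((congrArg (_ ≫ ·) (EtOver.bcMap_snd hj.1 ((post hj).map g))).trans
        ((Category.assoc _ _ _).symm.trans (congrArg (· ≫ g.hom.left) (unitLeft_snd hj E))))).symm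
    exact (Category.assoc _ _ _).trans ((congrArg (_ ≫ ·) (unitLeft_snd hj E')).trans
      ((Category.comp_id _).trans (Category.id_comp _).symm))

theorem left_tri (E : EtOver U.obj) : (post hj).map (unitApp hj E) ≫ counitApp hj ((post hj).obj E) = 𝟙 _ :=
  EtOver.hom_ext _ _ (unitLeft_snd hj E)

theorem right_tri (E : EtOver X.obj) :
    unitApp hj ((EtOver.bc hj.1).obj E) ≫ (EtOver.bc hj.1).map (counitApp hj E) = 𝟙 _ := by
  refine EtOver.hom_ext _ _ (hj.1.hom_ext ?_ ?_)
  · change (yon S).map (unitLeft hj _ ≫ (EtOver.bcMap hj.1 (counitApp hj E)).hom.left) ≫ hj.1.fst E.obj.hom =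
      (yon S).map (𝟙 _) ≫ hj.1.fst E.obj.hom
    refine (((congrArg (· ≫ _) ((yon S).map_comp _ _)).trans (Category.assoc _ _ _)).trans
      ((congrArg (_ ≫ ·) (EtOver.map_bcMap_fst hj.1 (counitApp hj E))).trans (unitLeft_fst hj _))).trans ?_
    exact ((congrArg (· ≫ _) ((yon S).map_id _)).trans (Category.id_comp _)).symm
  · change (unitLeft hj _ ≫ (EtOver.bcMap hj.1 (counitApp hj E)).hom.left) ≫ hj.1.snd E.obj.hom =
      𝟙 _ ≫ hj.1.snd E.obj.hom
    exact (Category.assoc _ _ _).trans ((congrArg (_ ≫ ·) (EtOver.bcMap_snd hj.1 (counitApp hj E))).trans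
      ((Category.assoc _ _ _).symm.trans (congrArg (· ≫ hj.1.snd E.obj.hom) (unitLeft_snd hj _))))

/-- Base change is right adjoint to postcomposition. -/
noncomputable def postAdj : post hj ⊣ EtOver.bc hj.1 :=
  Adjunction.mkOfUnitCounit
    { unit := { app := unitApp hj, naturality := fun _ _ g => unit_natural hj g }
      counit := { app := counitApp hj, naturality := fun E E' g => EtOver.hom_ext _ _ (EtOver.bcMap_snd hj.1 g) }
      left_triangle := by ext E : 2; exact (congrArg (_ ≫ ·) (Category.id_comp _)).trans (left_tri hj E)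
      right_triangle := by ext E : 2; exact (congrArg (_ ≫ ·) (Category.id_comp _)).trans (right_tri hj E) }

/-- Restriction is left adjoint to direct image. -/
noncomputable def resAdj : Res hj ⊣ pushModEt hj.1 :=
  SheafOfModules.pushforwardPushforwardAdj (postAdj hj) (resRingHom hj) (bcRingHom hj.1)
    (by
      ext E : 2
      exact (Category.comp_id _).symm)
    (by
      ext E : 2
      change 𝟙 _ ≫ (BigSite.ORing Scheme.etalePrecoverage S).obj.map (hj.1.snd ((post hj).obj E.unop).obj.hom).op ≫
        (BigSite.ORing Scheme.etalePrecoverage S).obj.map (unitLeft hj E.unop).op = 𝟙 _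
      exact (Category.id_comp _).trans (((BigSite.ORing Scheme.etalePrecoverage S).obj.map_comp _ _).symm.trans
        ((congrArg (BigSite.ORing Scheme.etalePrecoverage S).obj.map
          (op_comp.symm.trans (congrArg Quiver.Hom.op (unitLeft_snd hj E.unop)))).trans
          ((BigSite.ORing Scheme.etalePrecoverage S).obj.map_id _))))

/-- The inverse image on an open subspace is restriction. -/
noncomputable def pullIso [(SheafOfModules.pushforward.{u + 1} (bcRingHom hj.1)).IsRightAdjoint] :
    pullModEt hj.1 ≅ Res hj :=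
  (pullPushAdjModEt hj.1).leftAdjointUniq (resAdj hj)

instance isQuasicoherent_res (M : ModEt X.obj) [M.IsQuasicoherent] : ((Res hj).obj M).IsQuasicoherent :=
  isQuasicoherent_of_bc fun E W g hE hW =>
    have : IsAffine ((post hj).obj E).obj.left.left := hE
    have : IsAffine ((post hj).obj W).obj.left.left := hW
    bc_of_isQuasicoherent (M := M) ((post hj).map g)

/-- The unit of the adjunction is restriction along the projection. -/
theorem resAdj_unit_app (M : ModEt X.obj) (E : EtOver X.obj) (n : sectModEt M E) :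
    hs ((resAdj hj).unit.app M) E n = rs M (counitApp hj E) n := rfl

end Groth.Agent.AlgSpB.FPCover
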