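import Groth.Agent.AlgSpB.FPCover.Small
import Groth.Agent.AlgSpB.FPCover.AffineHom

/-!
# Quasi-coherent modules as filtered colimits of modules of finite presentation
-/

universe u

open CategoryTheory CategoryTheory.Limits AlgebraicGeometry Opposite

set_option backward.isDefEq.respectTransparency false
set_option backward.isDefEq.respectTransparency.types false
set_option autoImplicit false
set_option maxHeartbeats 1000000

namespace Groth.Agent.AlgSpB.FPCover

open _root_.AlgSp
open Groth.Agent.AlgSpQC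
open Groth.Agent.AlgSpB.SubQC

variable {S : Scheme.{u}} {X : Space S}

theorem isFinitePresentation_biprod (A B : ModEt X.obj) [A.IsFinitePresentation] [B.IsFinitePresentation] :
    (A ⊞ B).IsFinitePresentation := by
  have : (A ⊞ B).IsQuasicoherent := isQuasicoherent_biprod
  refine isFinitePresentation_of_finitePresentation fun E hE => ?_
  have hA := finitePresentation_sections (M := A) E
  have hB := finitePresentation_sections (M := B) E
  have hsur : Function.Surjective (hs (biprod.fst : A ⊞ B ⟶ A) E) := fun a =>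
    ⟨hs biprod.inl E a, (hs_of_comp_eq biprod.inl_fst E a).trans (hs_id E a)⟩
  have hinj : Function.Injective (hs (biprod.inr : B ⟶ A ⊞ B) E) := hs_injective _ E
  have hker : LinearMap.ker (hs (biprod.fst : A ⊞ B ⟶ A) E) = LinearMap.range (hs (biprod.inr : B ⟶ A ⊞ B) E) := by
    ext z
    refine ⟨fun h => ⟨hs biprod.snd E z, ?_⟩, ?_⟩
    · have := biprod_decomp E z
      rw [LinearMap.mem_ker.1 h, map_zero, zero_add] at this
      exact this.symm
    · rintro ⟨b, rfl⟩
      exact (hs_of_comp_eq biprod.inr_fst E b).trans (hs_zero E b)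
  let e : sectModEt B E ≃ₗ[gr E] LinearMap.range (hs (biprod.inr : B ⟶ A ⊞ B) E) := LinearEquiv.ofInjective _ hinj
  have : Module.FinitePresentation (gr E) (LinearMap.ker (hs (biprod.fst : A ⊞ B ⟶ A) E)) := by
    rw [hker]
    exact Module.finitePresentation_of_surjective e.toLinearMap e.surjective
      (by rw [LinearMap.ker_eq_bot.2 e.injective]; exact Submodule.fg_bot)
  exact Module.finitePresentation_of_ker _ hsur

theorem isFinitePresentation_cokernel {A B : ModEt X.obj} [A.IsFinitePresentation] [B.IsFinitePresentation]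
    (φ : A ⟶ B) : (cokernel φ).IsFinitePresentation := by
  have : (cokernel φ).IsQuasicoherent := isQuasicoherent_cokernel φ
  let ι := kernel.ι (cokernel.π φ)
  have : (kernel (cokernel.π φ)).IsQuasicoherent := isQuasicoherent_kernel _
  let f' : A ⟶ kernel (cokernel.π φ) := Abelian.factorThruImage φ
  have : Epi f' := inferInstanceAs (Epi (Abelian.factorThruImage φ))
  have : (kernel (cokernel.π φ)).IsFiniteType := isFiniteType_of_epi f'
  refine isFinitePresentation_of_finitePresentation fun E hE => ?_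
  have := finitePresentation_sections (M := B) E
  have := finite_sections (M := kernel (cokernel.π φ)) E
  refine Module.finitePresentation_of_surjective (hs (cokernel.π φ) E) (hs_surjective (cokernel.π φ) E) ?_
  rw [show LinearMap.ker (hs (cokernel.π φ) E) = LinearMap.range (hs ι E) by
    ext z
    refine ⟨fun h => ?_, ?_⟩
    · obtain ⟨x, hx⟩ := exists_kernel_hs (cokernel.π φ) z h
      exact ⟨x, hx⟩
    · rintro ⟨x, rfl⟩
      exact (hs_of_comp_eq (kernel.condition _) E x).trans (hs_zero E x)]
  exact Submodule.fg_range _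

/-- Modules of finite presentation with a map to a given one. -/
structure FPOver (M : ModEt X.obj) : Type (u + 1) where
  /-- the index -/
  idx : Idx X
  /-- the map -/
  map : idxMod idx ⟶ M

/-- Maps over the given module. -/
@[ext]
structure FPOver.Hom {M : ModEt X.obj} (a b : FPOver M) : Type (u + 1) where
  /-- the map -/
  hom : idxMod a.idx ⟶ idxMod b.idx
  w : hom ≫ b.map = a.map

variable {M : ModEt X.obj}

noncomputable instance : SmallCategory (FPOver M) where
  Hom := FPOver.Hom
  id a := ⟨𝟙 _, Category.id_comp _⟩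
  comp f g := ⟨f.hom ≫ g.hom, by rw [Category.assoc, g.w, f.w]⟩
  id_comp f := FPOver.Hom.ext (Category.id_comp _)
  comp_id f := FPOver.Hom.ext (Category.comp_id _)
  assoc f g h := FPOver.Hom.ext (Category.assoc _ _ _)

theorem exists_fpOver (N : ModEt X.obj) [N.IsFinitePresentation] (ψ : N ⟶ M) :
    ∃ (c : FPOver M) (α : N ⟶ idxMod c.idx), α ≫ c.map = ψ := by
  obtain ⟨i, ⟨e⟩⟩ := exists_idx N
  exact ⟨⟨i, e.hom ≫ ψ⟩, e.inv, by simp⟩

theorem isFiltered_fpOver : IsFiltered (FPOver M) := by
  have : IsFilteredOrEmpty (FPOver M) := by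
    refine ⟨fun a b => ?_, fun a b f g => ?_⟩
    · have := isFinitePresentation_biprod (idxMod a.idx) (idxMod b.idx)
      obtain ⟨c, α, hα⟩ := exists_fpOver (M := M) (idxMod a.idx ⊞ idxMod b.idx) (biprod.desc a.map b.map)
      exact ⟨c, ⟨biprod.inl ≫ α, by rw [Category.assoc, hα, biprod.inl_desc]⟩,
        ⟨biprod.inr ≫ α, by rw [Category.assoc, hα, biprod.inr_desc]⟩, trivial⟩
    · have := isFinitePresentation_cokernel (f.hom - g.hom)
      obtain ⟨c, α, hα⟩ := exists_fpOver (M := M) (cokernel (f.hom - g.hom))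
        (cokernel.desc _ b.map (by rw [Preadditive.sub_comp, f.w, g.w, sub_self]))
      refine ⟨c, ⟨cokernel.π _ ≫ α, by rw [Category.assoc, hα, cokernel.π_desc]⟩, FPOver.Hom.ext ?_⟩
      change f.hom ≫ cokernel.π (f.hom - g.hom) ≫ α = g.hom ≫ cokernel.π (f.hom - g.hom) ≫ α
      rw [← Category.assoc, ← Category.assoc]
      congr 1
      rw [← sub_eq_zero, ← Preadditive.sub_comp, cokernel.condition]
  have : Nonempty (FPOver M) := ⟨(exists_fpOver (M := M) (freeMod X 0) 0).choose⟩
  constructor

/-- The diagram. -/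
noncomputable def fpDiag (M : ModEt X.obj) : FPOver M ⥤ ModEt X.obj where
  obj a := idxMod a.idx
  map f := f.hom

/-- The cocone. -/
noncomputable def fpCocone (M : ModEt X.obj) : fpDiag M ⟶ (Functor.const (FPOver M)).obj M where
  app a := a.map
  naturality _ _ f := f.w.trans (Category.comp_id _).symm

variable [QuasiSeparatedSpace ↥S] (hqc : IsQuasiCompactSp X.obj) (hqs : IsQuasiSeparatedSp X.obj)
  [M.IsQuasicoherent]

include hqc hqs in
theorem exists_fp_section (E : EtOver X.obj) [IsAffine E.obj.left.left] (z : sectModEt M E) :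
    ∃ (a : FPOver M) (t : sectModEt (idxMod a.idx) E), hs a.map E t = z := by
  obtain ⟨P, hP, -, hfg, hz⟩ := exists_fg_le (M := M) hqc hqs gen_topSub (κ := PUnit.{u + 1})
    (fun _ => E) (fun _ => inferInstance) (fun _ => z) (fun _ => trivial)
  have := isQuasicoherent_of_gen hP
  have := isFiniteType_mod hP hfg
  obtain ⟨N, π, hN, hπ⟩ := exists_fp_cover hqc hqs P.mod
  obtain ⟨x, hx⟩ := exists_mod_of_mem P (hz PUnit.unit)
  obtain ⟨y, hy⟩ := hπ E inferInstance x
  obtain ⟨c, α, hα⟩ := exists_fpOver (M := M) N (π ≫ P.ι)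
  refine ⟨c, hs α E y, ?_⟩
  rw [hs_of_comp_eq hα, hs_comp, hy, hx]

omit [QuasiSeparatedSpace ↥S] [M.IsQuasicoherent] in
theorem isFinitePresentation_quot {L N : ModEt X.obj} [L.IsQuasicoherent] [L.IsFiniteType] [N.IsFinitePresentation]
    (μ : L ⟶ N) [Mono μ] : (cokernel μ).IsFinitePresentation := by
  have : (cokernel μ).IsQuasicoherent := isQuasicoherent_cokernel μ
  exact isFinitePresentation_of_finitePresentation fun W _ =>
    have := finitePresentation_sections (M := N) W
    finitePresentation_quot μ W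

omit [QuasiSeparatedSpace ↥S] in
theorem exists_fpOver_quot {K N : ModEt X.obj} [N.IsFinitePresentation] (ψ : N ⟶ M) (i : K ⟶ N) [Mono i]
    (hi : i ≫ ψ = 0) (D : LocalSub K) [D.mod.IsQuasicoherent] [D.mod.IsFiniteType] {E : EtOver X.obj}
    {k : sectModEt K E} (hk : k ∈ D.carrier E) :
    ∃ (c : FPOver M) (α : N ⟶ idxMod c.idx), α ≫ c.map = ψ ∧ hs α E (hs i E k) = 0 := by
  have := isFinitePresentation_quot (D.ι ≫ i)
  obtain ⟨c, α, hα⟩ := exists_fpOver (M := M) (cokernel (D.ι ≫ i))
    (cokernel.desc _ ψ (by rw [Category.assoc, hi, comp_zero]))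
  refine ⟨c, cokernel.π _ ≫ α, by rw [Category.assoc, hα, cokernel.π_desc], ?_⟩
  exact (hs_comp _ α E _).trans ((congrArg (hs α E) (hs_π_ι_eq_zero i D hk)).trans (map_zero _))

include hqc hqs in
theorem exists_equalizing {N : ModEt X.obj} [N.IsFinitePresentation] (ψ : N ⟶ M) (E : EtOver X.obj)
    [IsAffine E.obj.left.left] (s : sectModEt N E) (h : hs ψ E s = 0) :
    ∃ (c : FPOver M) (α : N ⟶ idxMod c.idx), α ≫ c.map = ψ ∧ hs α E s = 0 := by
  have := isQuasicoherent_kernel ψ
  obtain ⟨k, hk⟩ := exists_kernel_hs ψ s h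
  obtain ⟨D, hD, -, hfg, hkD⟩ := exists_fg_le (M := kernel ψ) hqc hqs gen_topSub (κ := PUnit.{u + 1})
    (fun _ => E) (fun _ => inferInstance) (fun _ => k) (fun _ => trivial)
  have := isQuasicoherent_of_gen hD
  have := isFiniteType_mod hD hfg
  obtain ⟨c, α, hα, h0⟩ := exists_fpOver_quot ψ (kernel.ι ψ) (kernel.condition ψ) D (hkD PUnit.unit)
  exact ⟨c, α, hα, (congrArg (hs α E) hk.symm).trans h0⟩

variable {T : ModEt X.obj} (φ : fpDiag M ⟶ (Functor.const (FPOver M)).obj T)

theorem app_eq {a c : FPOver M} (f : idxMod a.idx ⟶ idxMod c.idx) (w : f ≫ c.map = a.map) :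
    f ≫ φ.app c = φ.app a := by
  have h := φ.naturality (X := a) (Y := c) ⟨f, w⟩
  simp only [Functor.const_obj_map] at h
  exact h.trans (Category.comp_id _)

include hqc hqs in
theorem existsUnique_fpVal (E : EtOver X.obj) [IsAffine E.obj.left.left] (z : sectModEt M E) :
    ∃! v : sectModEt T E, ∀ (a : FPOver M) (t : sectModEt (idxMod a.idx) E),
      hs a.map E t = z → hs (φ.app a) E t = v := by
  obtain ⟨a, t, ht⟩ := exists_fp_section hqc hqs E z
  refine ⟨hs (φ.app a) E t, fun b t' ht' => ?_, fun v hv => (hv a t ht).symm⟩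
  have := isFinitePresentation_biprod (idxMod a.idx) (idxMod b.idx)
  obtain ⟨c, α, hα, h0⟩ := exists_equalizing hqc hqs (N := idxMod a.idx ⊞ idxMod b.idx)
    (biprod.desc a.map b.map) E (hs biprod.inl E t - hs biprod.inr E t') (by
      rw [map_sub, hs_of_comp_eq (biprod.inl_desc a.map b.map), hs_of_comp_eq (biprod.inr_desc a.map b.map), ht, ht',
        sub_self])
  rw [map_sub, sub_eq_zero] at h0
  have ea := app_eq φ (a := a) (c := c) (biprod.inl ≫ α) (by rw [Category.assoc, hα, biprod.inl_desc])
  have eb := app_eq φ (a := b) (c := c) (biprod.inr ≫ α) (by rw [Category.assoc, hα, biprod.inr_desc])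
  refine (hs_of_comp_eq eb E t').symm.trans (Eq.trans ?_ (hs_of_comp_eq ea E t))
  refine congrArg (hs (φ.app c) E) ?_
  exact (hs_comp biprod.inr α E t').trans (h0.symm.trans (hs_comp biprod.inl α E t).symm)

/-- The value of a compatible family. -/
noncomputable def fpVal (E : EtOver X.obj) (hE : IsAffine E.obj.left.left) (z : sectModEt M E) : sectModEt T E :=
  (existsUnique_fpVal hqc hqs φ E z).choose

theorem fpVal_spec (E : EtOver X.obj) (hE : IsAffine E.obj.left.left) (a : FPOver M)
    (t : sectModEt (idxMod a.idx) E) : fpVal hqc hqs φ E hE (hs a.map E t) = hs (φ.app a) E t :=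
  ((existsUnique_fpVal hqc hqs φ E (hs a.map E t)).choose_spec.1 a t rfl).symm

/-- The value as a linear map. -/
noncomputable def fpValLin (E : EtOver X.obj) (hE : IsAffine E.obj.left.left) :
    sectModEt M E →ₗ[gr E] sectModEt T E where
  toFun := fpVal hqc hqs φ E hE
  map_add' y z := by
    obtain ⟨a, t, rfl⟩ := exists_fp_section hqc hqs E y
    obtain ⟨b, t', rfl⟩ := exists_fp_section hqc hqs E z
    have := isFiltered_fpOver (M := M)
    let c := IsFiltered.max a b
    let f := IsFiltered.leftToMax a b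
    let g := IsFiltered.rightToMax a b
    rw [← hs_of_comp_eq f.w E t, ← hs_of_comp_eq g.w E t', ← map_add, fpVal_spec, fpVal_spec, fpVal_spec,
      map_add]
  map_smul' r z := by
    obtain ⟨a, t, rfl⟩ := exists_fp_section hqc hqs E z
    rw [RingHom.id_apply, ← map_smul, fpVal_spec, fpVal_spec, map_smul]

include hqc hqs in
theorem nonempty_isColimit_fp : Nonempty (IsColimit (Cocone.mk M (fpCocone M))) := by
  refine ⟨{ desc := fun s => homOfAffine (fun E hE => fpValLin hqc hqs s.ι E hE) ?_, fac := fun s a => ?_,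
            uniq := fun s m hm => ?_ }⟩
  · intro E W hE hW g z
    obtain ⟨a, t, rfl⟩ := exists_fp_section hqc hqs E z
    change rs s.pt g (fpVal hqc hqs s.ι E hE (hs a.map E t)) = fpVal hqc hqs s.ι W hW (rs M g (hs a.map E t))
    rw [← hs_rs, fpVal_spec, fpVal_spec]
    exact (hs_rs (s.ι.app a) g t).symm
  · refine hom_ext_affine fun E hE t => ?_
    refine (hs_comp _ _ E t).trans ?_
    exact (hs_homOfAffine _ _ hE _).trans (fpVal_spec hqc hqs s.ι E hE a t)
  · refine hom_ext_affine fun E hE z => ?_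
    obtain ⟨a, t, rfl⟩ := exists_fp_section hqc hqs E z
    refine Eq.trans ?_ ((hs_homOfAffine _ _ hE _).trans (fpVal_spec hqc hqs s.ι E hE a t)).symm
    have h := hm a
    exact (hs_of_comp_eq (f := a.map) (g := m) h E t)

end Groth.Agent.AlgSpB.FPCover
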