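import Groth.Agent.AlgSpB.SubQC.FinSub

/-!
# Finite free modules
-/

universe u

open CategoryTheory CategoryTheory.Limits AlgebraicGeometry Opposite

set_option backward.isDefEq.respectTransparency false
set_option backward.isDefEq.respectTransparency.types false
set_option autoImplicit false

namespace Groth.Agent.AlgSpB.FPCover

open _root_.AlgSp
open Groth.Agent.AlgSpQC

variable {S : Scheme.{u}} (X : Space S) (n : ℕ)

/-- The free module of finite rank. -/
noncomputable abbrev freeMod : ModEt X.obj :=
  SheafOfModules.free (R := OEtRing X.obj) (ULift.{u + 1} (Fin n))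

variable {X n}

/-- The standard sections of the free module. -/
noncomputable def fsec (E : EtOver X.obj) (i : ULift.{u + 1} (Fin n)) : sectModEt (freeMod X n) E :=
  sec (SheafOfModules.freeSection (R := OEtRing X.obj) i) E

theorem rs_fsec {E W : EtOver X.obj} (g : W ⟶ E) (i : ULift.{u + 1} (Fin n)) :
    rs (freeMod X n) g (fsec E i) = fsec W i := res_sec _ g

theorem sr_fsec {E W : EtOver X.obj} (g : W ⟶ E) : sr g (fsec (n := n) E) = fsec W := funext (rs_fsec g)

theorem lc_fsec_injective (E : EtOver X.obj) : Function.Injective (lc (fsec (n := n) E)) := by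
  classical
  refine fun c d h => Finsupp.ext fun i => ?_
  have key : ∀ c : ULift.{u + 1} (Fin n) →₀ gr E,
      hs (coord (R := OEtRing X.obj) i) E (lc (fsec E) c) = upΓ E (c i) := by
    intro c
    induction c using Finsupp.induction_linear with
    | zero => simp only [map_zero, Finsupp.coe_zero, Pi.zero_apply]
    | add x y hx hy => simp only [map_add, hx, hy, Finsupp.coe_add, Pi.add_apply]
    | single j a =>
      have e : hs (coord (R := OEtRing X.obj) i) E (fsec E j) = _ :=
        coord_freeSection (R := OEtRing X.obj) i j E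
      rw [Finsupp.linearCombination_single, map_smul, e, Finsupp.single_apply]
      split_ifs
      · exact mul_one (upΓ E a)
      · exact (mul_zero (upΓ E a)).trans (map_zero (upΓ E)).symm
  exact congrArg ULift.down (((key c).symm.trans (congrArg _ h)).trans (key d))

theorem mem_span_gr {N : ModEt X.obj} {E : EtOver X.obj} {A : Set (sectModEt N E)} {x : sectModEt N E}
    (h : x ∈ Submodule.span ((OEtRing X.obj).obj.obj (op E)) A) : x ∈ Submodule.span (gr E) A := by
  induction h using Submodule.span_induction with
  | mem x hx => exact Submodule.subset_span hx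
  | zero => exact Submodule.zero_mem _
  | add x y _ _ hx hy => exact Submodule.add_mem _ hx hy
  | smul r x _ hx =>
    have : r • x = (ULift.down r : gr E) • x := rfl
    rw [this]
    exact Submodule.smul_mem _ _ hx

theorem pres_fsec (E : EtOver X.obj) : Pres (fsec (n := n) E) := by
  refine ⟨fun E' g m => ?_, fun E' g c hc => ⟨⊤, GrothendieckTopology.top_mem _ _, fun V h _ => ?_⟩⟩
  · have hepi : Epi ((freeMod X n).freeHomEquiv.symm (SheafOfModules.freeSection (R := OEtRing X.obj))) := by
      have e : (freeMod X n).freeHomEquiv.symm (SheafOfModules.freeSection (R := OEtRing X.obj)) = 𝟙 _ :=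
        (freeMod X n).freeHomEquiv.symm_apply_apply _
      rw [e]; infer_instance
    obtain ⟨T, hT, hT'⟩ := span_mem_of_epi _ hepi E' m
    refine ⟨T, hT, fun V h hh => Submodule.span_mono ?_ (mem_span_gr (hT' V h hh))⟩
    rw [sr_fsec]
    rfl
  · rw [sr_fsec, ← map_zero (lc (fsec (n := n) E'))] at hc
    rw [lc_fsec_injective E' hc, cmap_zero]
    exact Submodule.zero_mem _

theorem ker_lc_fsec (E : EtOver X.obj) : LinearMap.ker (lc (fsec (n := n) E)) = ⊥ :=
  LinearMap.ker_eq_bot.2 (lc_fsec_injective E)

instance isFinitePresentation_freeMod : (freeMod X n).IsFinitePresentation := by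
  have hC : ∀ i : {V : EtOver X.obj // IsAffine V.obj.left.left}, LinearMap.ker (lc (fsec (n := n) i.1)) =
      Submodule.span (gr i.1) (Set.range (PEmpty.elim : PEmpty.{u + 2} → (ULift.{u + 1} (Fin n) →₀ gr i.1))) :=
    fun i => by rw [ker_lc_fsec, Set.range_eq_empty, Submodule.span_empty]
  have key : ∀ i : {V : EtOver X.obj // IsAffine V.obj.left.left},
      ∃ P : ((freeMod X n).over i.1).Presentation, P.IsFinite := fun i => by
    have := i.2
    have h₁ : (presentationOfPres (pres_fsec (n := n) i.1) _ (hC i)).generators.IsFiniteType :=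
      ⟨inferInstanceAs (Finite (ULift.{u + 1} (Fin n)))⟩
    have h₂ : (presentationOfPres (pres_fsec (n := n) i.1) _ (hC i)).relations.IsFiniteType :=
      ⟨inferInstanceAs (Finite PEmpty.{u + 2})⟩
    exact ⟨presentationOfPres (pres_fsec (n := n) i.1) _ (hC i), { }⟩
  choose P hP using key
  constructor
  refine ⟨qData P, ?_⟩
  constructor
  exact hP

variable {N : ModEt X.obj} {T₀ : EtOver X.obj} (h₀ : IsTerminal T₀)

/-- Global sections from a terminal object. -/
noncomputable def secTerm (m : sectModEt N T₀) : N.sections :=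
  PresheafOfModules.sectionsMk (fun E => rs N (h₀.from E.unop) m) fun E W g => by
    change rs N g.unop (rs N (h₀.from E.unop) m) = rs N (h₀.from W.unop) m
    rw [← rs_comp, h₀.hom_ext (g.unop ≫ h₀.from E.unop) (h₀.from W.unop)]

/-- The map from a free module given by sections over a terminal object. -/
noncomputable def freeMap (m : ULift.{u + 1} (Fin n) → sectModEt N T₀) : freeMod X n ⟶ N :=
  N.freeHomEquiv.symm fun i => secTerm h₀ (m i)

theorem hs_freeMap_fsec (m : ULift.{u + 1} (Fin n) → sectModEt N T₀) (E : EtOver X.obj)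
    (i : ULift.{u + 1} (Fin n)) : hs (freeMap h₀ m) E (fsec E i) = rs N (h₀.from E) (m i) := by
  have e := congrArg (fun s : N.sections => s.val (op E))
    (congrFun (N.freeHomEquiv.apply_symm_apply fun i => secTerm h₀ (m i)) i)
  refine Eq.trans ?_ e
  conv_rhs => rw [← Category.id_comp (N.freeHomEquiv.symm fun i => secTerm h₀ (m i))]
  rw [SheafOfModules.freeHomEquiv_comp_apply]
  rfl

theorem hs_freeMap_lc (m : ULift.{u + 1} (Fin n) → sectModEt N T₀) (E : EtOver X.obj)
    (c : ULift.{u + 1} (Fin n) →₀ gr E) :
    hs (freeMap h₀ m) E (lc (fsec E) c) = lc (sr (h₀.from E) m) c := by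
  refine (hs_lc _ E (fsec E) c).trans ?_
  exact congrArg (fun s => lc s c) (funext (hs_freeMap_fsec h₀ m E))

/-- Generators over an affine terminal object give a surjection from a free module. -/
theorem hs_freeMap_surjective [N.IsQuasicoherent] [IsAffine T₀.obj.left.left]
    (m : ULift.{u + 1} (Fin n) → sectModEt N T₀) (hm : Submodule.span (gr T₀) (Set.range m) = ⊤)
    (E : EtOver X.obj) [IsAffine E.obj.left.left] : Function.Surjective (hs (freeMap h₀ m) E) := fun z => by
  obtain ⟨c, hc⟩ := (pres_of_generators hm).exists_lc_eq' (h₀.from E) z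
  exact ⟨lc (fsec E) c, (hs_freeMap_lc h₀ m E c).trans hc⟩

end Groth.Agent.AlgSpB.FPCover
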