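import Groth.Agent.AlgSpB.FPCover.Presented

/-!
# Gluing a module on a chart to a module agreeing with it over an open part
-/

universe u

open CategoryTheory CategoryTheory.Limits AlgebraicGeometry Opposite

set_option backward.isDefEq.respectTransparency false
set_option backward.isDefEq.respectTransparency.types false
set_option autoImplicit false
set_option maxHeartbeats 2000000

namespace Groth.Agent.AlgSpB.FPCover

open _root_.AlgSp
open Groth.Agent.AlgSpQC
open Groth.Agent.AlgSpB.SubQC

variable {S : Scheme.{u}} {U X : Space S} {j : U ⟶ X} (hj : RepWith @Etale j.hom)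

theorem pushSect_map {G G' : ModEt U.obj} (φ : G ⟶ G') (E : EtOver X.obj)
    (x : sectModEt ((pushModEt hj.1).obj G) E) :
    pushSect hj.1 G' E (hs ((pushModEt hj.1).map φ) E x) = hs φ (bcO hj.1 E) (pushSect hj.1 G E x) := rfl

theorem pushSect_etaR (N : ModEt X.obj) (E : EtOver X.obj) (n : sectModEt N E) :
    pushSect hj.1 ((Res hj).obj N) E (hs (etaR hj N) E n) =
      (show sectModEt ((Res hj).obj N) (bcO hj.1 E) from rs N (counitApp hj E) n) := sR_etaR hj N E n

theorem rs_res (N : ModEt X.obj) {W W' : EtOver U.obj} (d : W' ⟶ W) (x : sectModEt ((Res hj).obj N) W) :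
    rs ((Res hj).obj N) d x =
      (show sectModEt ((Res hj).obj N) W' from rs N ((post hj).map d) (show sectModEt N ((post hj).obj W) from x)) :=
  rfl

theorem unit_cancel {W Z : EtOver U.obj} (a b : Z ⟶ W) (h : a ≫ unitApp hj W = b ≫ unitApp hj W) : a = b := by
  have h' : a.hom.left ≫ unitLeft hj W = b.hom.left ≫ unitLeft hj W :=
    congrArg (fun f : Z ⟶ (EtOver.bc hj.1).obj ((post hj).obj W) => f.hom.left) h
  refine EtOver.hom_ext _ _ ?_
  have := congrArg (fun f => f ≫ hj.1.snd ((post hj).obj W).obj.hom) h'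
  simpa only [Category.assoc, unitLeft_snd, Category.comp_id] using this

theorem gm_unit_gπ (W : EtOver U.obj) (r : gr ((post hj).obj W)) :
    gm (unitApp hj W) (gπ hj.1 ((post hj).obj W) r) = r := by
  change ((unitLeft hj W).left ≫ (hj.1.snd ((post hj).obj W).obj.hom).left).appTop r = r
  rw [← Over.comp_left, unitLeft_snd]
  rfl

/-- Near any point, the base change of a chart object is either over `A` or comes from the object itself. -/
theorem exists_unit_cover {A : Set (Points X.obj)} (hA : IsOpen A) {T₀ : EtOver U.obj} (h₀ : IsTerminal T₀)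
    (hinj : AlgSpEN.InjOutside ((post hj).obj T₀).obj.hom A) (W : EtOver U.obj)
    (x : (bcO hj.1 ((post hj).obj W)).obj.left.left) :
    ∃ (P : EtOver U.obj) (g : P ⟶ bcO hj.1 ((post hj).obj W)), x ∈ Set.range g.hom.left.left ∧
      (InA A ((post hj).obj P) ∨ ∃ d : P ⟶ W, d ≫ unitApp hj W = g) := by
  let B := bcO hj.1 ((post hj).obj W)
  by_cases hx : Points.ofPt ((post hj).obj B).obj.hom x ∈ A
  · obtain ⟨P, g, -, hxg, hgA, -⟩ := exists_affine_nbhd B
      ⟨Points.ofPt ((post hj).obj B).obj.hom ⁻¹' A, hA.preimage (Points.continuous_ofPt _)⟩ (x := x) hx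
    refine ⟨P, g, hxg, Or.inl fun w => ?_⟩
    rw [← CostructuredArrow.w ((post hj).map g).hom, AlgSpB.ofPt_map_comp]
    exact hgA ⟨w, rfl⟩
  · obtain ⟨Y, c, hxc, hc⟩ := exists_eq_near hinj ((post hj).map (h₀.from B))
      (counitApp hj ((post hj).obj W) ≫ (post hj).map (h₀.from W)) x hx
    obtain ⟨P, g, ι, ι', hg, hι', -, -⟩ := exists_lift_obj hj c
    refine ⟨P, g, ?_, Or.inr ?_⟩
    · obtain ⟨y, rfl⟩ := hxc
      refine ⟨ι'.hom.left.left y, ?_⟩
      change (ι' ≫ (post hj).map g).hom.left.left y = c.hom.left.left y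
      rw [hg, ← Category.assoc, hι', Category.id_comp]
    · have e : (post hj).map g ≫ (post hj).map (h₀.from B) =
          (post hj).map g ≫ counitApp hj ((post hj).obj W) ≫ (post hj).map (h₀.from W) := by
        rw [hg, Category.assoc, hc, Category.assoc]
      have el : g.hom.left ≫ (h₀.from B).hom.left =
          (g.hom.left ≫ hj.1.snd ((post hj).obj W).obj.hom) ≫ (h₀.from W).hom.left := by
        rw [Category.assoc]
        exact congrArg (fun f : (post hj).obj P ⟶ (post hj).obj T₀ => f.hom.left) e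
      let d : P ⟶ W := EtOver.homMk (g.hom.left ≫ hj.1.snd ((post hj).obj W).obj.hom) (by
        rw [← CostructuredArrow.w (h₀.from W).hom, ← Category.assoc, ← Functor.map_comp, ← el, Functor.map_comp,
          Category.assoc, CostructuredArrow.w (h₀.from B).hom, CostructuredArrow.w g.hom])
      refine ⟨d, EtOver.hom_ext _ _ (hj.1.hom_ext ?_ ?_)⟩
      · change (yon S).map (d.hom.left ≫ unitLeft hj W) ≫ hj.1.fst ((post hj).obj W).obj.hom = _
        rw [Functor.map_comp, Category.assoc, unitLeft_fst, CostructuredArrow.w d.hom,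
          ← CostructuredArrow.w g.hom]
        rfl
      · change (d.hom.left ≫ unitLeft hj W) ≫ hj.1.snd ((post hj).obj W).obj.hom = _
        rw [Category.assoc, unitLeft_snd, Category.comp_id]
        rfl

variable {N : ModEt X.obj} {Nv : ModEt U.obj} (ψ : Nv ⟶ (Res hj).obj N)

/-- The glued module. -/
noncomputable abbrev glueMod : ModEt X.obj := fib (etaR hj N) ((pushModEt hj.1).map ψ)

/-- The projection of the glued module to the old one. -/
noncomputable def glueFst : glueMod hj ψ ⟶ N := fibFst _ _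

theorem glue_cond (E : EtOver X.obj) (y : sectModEt (glueMod hj ψ) E) :
    hs ψ (bcO hj.1 E) (pushSect hj.1 Nv E (hs (fibSnd _ _) E y)) =
      (show sectModEt ((Res hj).obj N) (bcO hj.1 E) from rs N (counitApp hj E) (hs (glueFst hj ψ) E y)) :=
  ((pushSect_map hj ψ E _).symm.trans (congrArg (pushSect hj.1 _ E) (fib_cond _ _ y).symm)).trans
    (pushSect_etaR hj N E _)

/-- The component on the chart. -/
noncomputable def glueRes (W : EtOver U.obj) :
    sectModEt (glueMod hj ψ) ((post hj).obj W) →+ sectModEt Nv W :=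
  (rs Nv (unitApp hj W)).comp ((pushSect hj.1 Nv ((post hj).obj W)).toAddMonoidHom.comp
    (hs (fibSnd (etaR hj N) ((pushModEt hj.1).map ψ)) ((post hj).obj W)).toAddMonoidHom)

theorem glueRes_apply (W : EtOver U.obj) (y : sectModEt (glueMod hj ψ) ((post hj).obj W)) :
    glueRes hj ψ W y = rs Nv (unitApp hj W)
      (pushSect hj.1 Nv ((post hj).obj W) (hs (fibSnd _ _) ((post hj).obj W) y)) := rfl

theorem rs_unit_counit (W : EtOver U.obj) (a : sectModEt N ((post hj).obj W)) :
    rs ((Res hj).obj N) (unitApp hj W)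
      (show sectModEt ((Res hj).obj N) (bcO hj.1 ((post hj).obj W)) from rs N (counitApp hj ((post hj).obj W)) a) =
      (show sectModEt ((Res hj).obj N) W from a) := by
  refine (rs_res hj N (unitApp hj W) _).trans ?_
  change rs N ((post hj).map (unitApp hj W)) (rs N (counitApp hj ((post hj).obj W)) a) = a
  rw [← rs_comp, left_tri, rs_id]

theorem glueFst_eq (W : EtOver U.obj) (y : sectModEt (glueMod hj ψ) ((post hj).obj W)) :
    (show sectModEt ((Res hj).obj N) W from hs (glueFst hj ψ) ((post hj).obj W) y) =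
      hs ψ W (glueRes hj ψ W y) := by
  rw [glueRes_apply, hs_rs, glue_cond, rs_unit_counit]

theorem bijective_glueFst {A : Set (Points X.obj)}
    (hψ : ∀ W : EtOver U.obj, InA A ((post hj).obj W) → Function.Bijective (hs ψ W)) (E : EtOver X.obj)
    (hE : InA A E) : Function.Bijective (hs (glueFst hj ψ) E) := by
  obtain ⟨hi, hs'⟩ := hψ (bcO hj.1 E) (InA.of_hom (counitApp hj E) hE)
  refine ⟨fun y z h => fib_ext _ _ h ((pushSect hj.1 Nv E).injective (hi ?_)), fun a => ?_⟩
  · rw [glue_cond, glue_cond, h]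
  · obtain ⟨b, hb⟩ := hs' (show sectModEt ((Res hj).obj N) (bcO hj.1 E) from rs N (counitApp hj E) a)
    obtain ⟨z, hz, -⟩ := exists_fib (etaR hj N) ((pushModEt hj.1).map ψ) a ((pushSect hj.1 Nv E).symm b)
      ((pushSect hj.1 ((Res hj).obj N) E).injective (by
        rw [pushSect_etaR hj, pushSect_map hj, AddEquiv.apply_symm_apply, hb]))
    exact ⟨z, hz⟩

section Chart

variable {A : Set (Points X.obj)} (hA : IsOpen A) {T₀ : EtOver U.obj} (h₀ : IsTerminal T₀)
  (hinj : AlgSpEN.InjOutside ((post hj).obj T₀).obj.hom A)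
  (hψ : ∀ W : EtOver U.obj, InA A ((post hj).obj W) → Function.Bijective (hs ψ W)) (W : EtOver U.obj)

include hA h₀ hinj hψ in
theorem injective_glueRes : Function.Injective (glueRes hj ψ W) := by
  rw [injective_iff_map_eq_zero]
  intro y hy
  have ha : (show sectModEt ((Res hj).obj N) W from hs (glueFst hj ψ) _ y) = 0 :=
    (glueFst_eq hj ψ W y).trans (by rw [hy, map_zero])
  have hy' : hs (glueFst hj ψ) ((post hj).obj W) y = 0 := ha
  choose P g hx hor using exists_unit_cover hj hA h₀ hinj W
  refine fib_ext _ _ (hy'.trans (map_zero (hs (glueFst hj ψ) _)).symm) ?_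
  rw [map_zero]
  apply (pushSect hj.1 Nv ((post hj).obj W)).injective
  rw [map_zero]
  refine eq_of_family g (fun x => ⟨x, hx x⟩) fun x => ?_
  rw [map_zero]
  rcases hor x with h | ⟨d, hd⟩
  · apply (hψ (P x) h).1
    rw [map_zero, hs_rs, glue_cond, hy', map_zero]
    exact map_zero (rs ((Res hj).obj N) (g x))
  · rw [← hd, rs_comp, ← glueRes_apply, hy, map_zero]

include hA h₀ hinj hψ in
theorem surjective_glueRes : Function.Surjective (glueRes hj ψ W) := by
  intro w
  let B := bcO hj.1 ((post hj).obj W)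
  let a : sectModEt N ((post hj).obj W) := hs ψ W w
  let T : sectModEt ((Res hj).obj N) B := rs N (counitApp hj ((post hj).obj W)) a
  choose P g hx hor using exists_unit_cover hj hA h₀ hinj W
  let gg : ∀ k : B.obj.left.left ⊕ PUnit.{u + 1}, Sum.elim P (fun _ => W) k ⟶ B :=
    fun k => Sum.rec (motive := fun k => Sum.elim P (fun _ => W) k ⟶ B) g (fun _ => unitApp hj W) k
  have key : ∀ k : B.obj.left.left ⊕ PUnit.{u + 1}, ∃ (t : sectModEt Nv (Sum.elim P (fun _ => W) k)),
      hs ψ _ t = rs ((Res hj).obj N) (gg k) T ∧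
      (InA A ((post hj).obj (Sum.elim P (fun _ => W) k)) ∨ ∃ d : Sum.elim P (fun _ => W) k ⟶ W,
        d ≫ unitApp hj W = gg k ∧ t = rs Nv d w) := by
    rintro (x | x)
    · rcases hor x with h | ⟨d, hd⟩
      · obtain ⟨t, ht⟩ := (hψ (P x) h).2 (rs ((Res hj).obj N) (g x) T)
        exact ⟨t, ht, Or.inl h⟩
      · refine ⟨rs Nv d w, ?_, Or.inr ⟨d, hd, rfl⟩⟩
        refine (hs_rs ψ d w).trans ?_
        change _ = rs ((Res hj).obj N) (g x) T
        rw [← hd, rs_comp]
        exact congrArg (rs ((Res hj).obj N) d) (rs_unit_counit hj W a).symm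
    · refine ⟨w, (rs_unit_counit hj W a).symm, Or.inr ⟨𝟙 W, Category.id_comp _, (rs_id W w).symm⟩⟩
  choose t ht htor using key
  obtain ⟨b, hb⟩ := exists_glue_sections (M := Nv) gg (fun x => ⟨.inl x, hx x⟩) t fun k l Z ga gb e => by
    have hpsi : hs ψ Z (rs Nv ga (t k)) = hs ψ Z (rs Nv gb (t l)) := by
      rw [hs_rs, hs_rs, ht, ht, ← rs_comp, ← rs_comp]
      exact congrArg (fun f => rs ((Res hj).obj N) f T) e
    rcases htor k with hk | ⟨d, hd, hdt⟩
    · exact (hψ Z (InA.of_hom ((post hj).map ga) hk)).1 hpsi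
    rcases htor l with hl | ⟨d', hd', hdt'⟩
    · exact (hψ Z (InA.of_hom ((post hj).map gb) hl)).1 hpsi
    rw [hdt, hdt', ← rs_comp, ← rs_comp, unit_cancel hj (ga ≫ d) (gb ≫ d') (by
      rw [Category.assoc, Category.assoc, hd, hd']
      exact e)]
  obtain ⟨z, -, hz⟩ := exists_fib (etaR hj N) ((pushModEt hj.1).map ψ) a
    ((pushSect hj.1 Nv ((post hj).obj W)).symm b)
    ((pushSect hj.1 ((Res hj).obj N) ((post hj).obj W)).injective (by
      rw [pushSect_etaR hj, pushSect_map hj, AddEquiv.apply_symm_apply]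
      refine (eq_of_family gg (fun x => ⟨.inl x, hx x⟩) fun k => ?_).symm
      rw [← hs_rs, hb, ht]))
  refine ⟨z, ?_⟩
  rw [glueRes_apply, hz, AddEquiv.apply_symm_apply]
  exact (hb (.inr PUnit.unit)).trans (by
    rcases htor (.inr PUnit.unit) with h | ⟨d, hd, hdt⟩
    · exact (hψ W h).1 ((ht (.inr PUnit.unit)).trans (rs_unit_counit hj W a))
    · rw [hdt, unit_cancel hj d (𝟙 W) (hd.trans (Category.id_comp _).symm)]
      exact rs_id W w)

theorem glueRes_smul (r : gr ((post hj).obj W)) (y : sectModEt (glueMod hj ψ) ((post hj).obj W)) :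
    glueRes hj ψ W (r • y) = (show gr W from r) • glueRes hj ψ W y := by
  rw [glueRes_apply, glueRes_apply, map_smul, pushSect_smul, rs_smul, gm_unit_gπ]

include hA h₀ hinj hψ in
theorem finitePresentation_glue [h : Module.FinitePresentation (gr W) (sectModEt Nv W)] :
    Module.FinitePresentation (gr ((post hj).obj W)) (sectModEt (glueMod hj ψ) ((post hj).obj W)) := by
  let inst : Module (gr ((post hj).obj W)) (sectModEt Nv W) := moduleSect Nv W
  let L : sectModEt (glueMod hj ψ) ((post hj).obj W) →ₗ[gr ((post hj).obj W)] sectModEt Nv W :=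
    { toFun := glueRes hj ψ W
      map_add' := map_add _
      map_smul' := glueRes_smul hj ψ W }
  let e := LinearEquiv.ofBijective L
    ⟨injective_glueRes hj ψ hA h₀ hinj hψ W, surjective_glueRes hj ψ hA h₀ hinj hψ W⟩
  have : @Module.FinitePresentation (gr ((post hj).obj W)) (sectModEt Nv W) _ _ inst := h
  exact Module.finitePresentation_of_surjective e.symm.toLinearMap e.symm.surjective
    (by rw [LinearMap.ker_eq_bot.2 e.symm.injective]; exact Submodule.fg_bot)

end Chart

end Groth.Agent.AlgSpB.FPCover
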