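import Groth.Agent.AlgSpB.FPCover.Surj
import Groth.Agent.AlgSpB.FPCover.Free
import Groth.Agent.AlgSpB.IdealApprox.Step

/-!
# A presented module on a chart agreeing with a given one over an open part
-/

universe u

open CategoryTheory CategoryTheory.Limits AlgebraicGeometry Opposite

set_option backward.isDefEq.respectTransparency false
set_option backward.isDefEq.respectTransparency.types false
set_option autoImplicit false
set_option maxHeartbeats 2000000

namespace Groth.Agent.AlgSpB.FPCover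

open _root_.AlgSp
open Groth.Agent.AlgSpQC
open Groth.Agent.AlgSpB.SubQC

variable {S : Scheme.{u}} {U X : Space S} {j : U ⟶ X} (hj : RepWith @Etale j.hom)

theorem inA_preimage {A : Set (Points X.obj)} {W : EtOver U.obj} :
    InA (Points.map j.hom ⁻¹' A) W ↔ InA A ((post hj).obj W) :=
  ⟨fun h w => (ofPt_post hj W w).symm ▸ h w, fun h w => by
    have := h w
    rwa [ofPt_post hj W w] at this⟩

omit hj in
theorem exists_cover_preimage [QuasiSeparatedSpace ↥S] (hqc : IsQuasiCompactSp X.obj)
    (hqs : IsQuasiSeparatedSp X.obj) {A : Set (Points X.obj)} (hA : IsOpen A) (hAc : IsCompact A)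
    (E : EtOver X.obj) [IsAffine E.obj.left.left] :
    IsCompact (Points.ofPt E.obj.hom ⁻¹' A) := by
  obtain ⟨U₀, p₀, hU₀, hp₀, hps⟩ := AlgSpEN.exists_affine_atlas X hqc
  obtain ⟨P, π₁, π₂, sq⟩ := AlgSpB.exists_pullback_yon hp₀.1 E.obj.hom
  have : QuasiCompact π₁.left :=
    (AlgSpEN.repWith_quasiCompact_chart X hqs E.obj.hom).2 _ _ _ sq.flip
  exact IdealApprox.isCompact_preimage_ofPt sq A hAc hA hp₀ (AlgSpB.surjective_ofPt hps)

omit U j hj in
theorem finite_kernel {M N : ModEt X.obj} (φ : M ⟶ N) (E : EtOver X.obj) [Module.Finite (gr E) (sectModEt M E)]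
    (hs' : Function.Surjective (hs φ E)) (hN : Module.FinitePresentation (gr E) (sectModEt N E)) :
    Module.Finite (gr E) (sectModEt (kernel φ) E) := by
  have e : LinearMap.range (hs (kernel.ι φ) E) = LinearMap.ker (hs φ E) := by
    ext m
    refine ⟨?_, fun h => ?_⟩
    · rintro ⟨x, rfl⟩
      exact (hs_of_comp_eq (kernel.condition φ) E x).trans (hs_zero E x)
    · obtain ⟨x, hx⟩ := exists_kernel_hs φ m h
      exact ⟨x, hx⟩
  have : Module.Finite (gr E) (LinearMap.range (hs (kernel.ι φ) E)) :=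
    Module.Finite.iff_fg.2 (e ▸ Module.FinitePresentation.fg_ker _ hs')
  exact Module.Finite.equiv (LinearEquiv.ofInjective _ (hs_injective (kernel.ι φ) E)).symm

theorem hs_cokernel_comp_eq_zero {L M N : ModEt X.obj} (a : L ⟶ M) (b : M ⟶ N) (E : EtOver X.obj)
    (x : sectModEt L E) (m : sectModEt M E) (h : hs a E x = m) :
    hs (cokernel.π (a ≫ b)) E (hs b E m) = 0 := by
  subst h
  exact (congrArg _ (hs_comp a b E x).symm).trans (quot_eq_zero (a ≫ b) E x)

theorem mem_carrier_of_family {M : ModEt X.obj} (J : LocalSub M) {E : EtOver X.obj} {κ : Type u}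
    {V : κ → EtOver X.obj} (a : ∀ i, V i ⟶ E)
    (ha : ∀ x : E.obj.left.left, ∃ i, x ∈ Set.range (a i).hom.left.left) (m : sectModEt M E)
    (h : ∀ i, rs M (a i) m ∈ J.carrier (V i)) : m ∈ J.carrier E := by
  refine J.local_mem (AlgSp.ofArrows_mem_etTop V a ha) fun Y f hf => ?_
  obtain ⟨i, c, rfl⟩ := Sieve.mem_ofArrows_iff .. |>.1 hf
  rw [rs_comp]
  exact J.res_mem c (h i)

theorem mem_carrier_of_generators {M : ModEt X.obj} [M.IsQuasicoherent] (J : LocalSub M) {O : EtOver X.obj}
    [IsAffine O.obj.left.left] {n : ℕ} (g : ULift.{u + 1} (Fin n) → sectModEt M O)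
    (hg : Submodule.span (gr O) (Set.range g) = ⊤) (h : ∀ i, g i ∈ J.carrier O) {W : EtOver X.obj}
    [IsAffine W.obj.left.left] (b : W ⟶ O) (m : sectModEt M W) : m ∈ J.carrier W := by
  obtain ⟨c, rfl⟩ := (pres_of_generators hg).exists_lc_eq' b m
  rw [Finsupp.linearCombination_apply]
  exact Submodule.sum_mem _ fun i _ => Submodule.smul_mem _ _ (J.res_mem b (h i))

theorem mem_carrier_of_top {M : ModEt X.obj} [M.IsQuasicoherent] (J : LocalSub M) {O : EtOver X.obj}
    [IsAffine O.obj.left.left] (h : ∀ m, m ∈ J.carrier O) {W : EtOver X.obj}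
    [IsAffine W.obj.left.left] (b : W ⟶ O) (m : sectModEt M W) : m ∈ J.carrier W := by
  obtain ⟨c, rfl⟩ := (bc_of_isQuasicoherent (M := M) b).1 m
  rw [Finsupp.linearCombination_apply]
  exact Submodule.sum_mem _ fun i _ => Submodule.smul_mem _ _ (J.res_mem b (h i))

/-- A submodule of finite type containing all sections over finitely many affine objects. -/
theorem exists_fg_top [QuasiSeparatedSpace ↥S] (hqc : IsQuasiCompactSp X.obj) (hqs : IsQuasiSeparatedSp X.obj)
    {M : ModEt X.obj} [M.IsQuasicoherent] {κ : Type u} [Finite κ] (O : κ → EtOver X.obj)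
    (hO : ∀ k, IsAffine (O k).obj.left.left) (hM : ∀ k, Module.Finite (gr (O k)) (sectModEt M (O k))) :
    ∃ J : LocalSub M, Gen J ∧ (∀ E, IsAffine E.obj.left.left → (J.carrier E).FG) ∧
      ∀ k, ∀ m : sectModEt M (O k), m ∈ J.carrier (O k) := by
  choose n g hg using fun k => (have := hM k; exists_finite_generators (M := M) (E := O k))
  obtain ⟨J, hJ, -, hfg, hm⟩ := exists_fg_le (M := M) hqc hqs gen_topSub
    (κ := Σ k, ULift.{u} (Fin (n k))) (fun i => O i.1) (fun i => hO i.1) (fun i => g i.1 ⟨i.2.down⟩)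
    (fun i => trivial)
  refine ⟨J, hJ, hfg, fun k m => ?_⟩
  have := hO k
  exact mem_carrier_of_generators J (g k) (hg k) (fun i => hm ⟨k, ⟨i.down⟩⟩) (𝟙 _) m

/-- A presented module on the chart mapping onto the restriction, isomorphically over the open part. -/
theorem exists_presented [QuasiSeparatedSpace ↥S] (hUc : IsQuasiCompactSp U.obj) (hUs : IsQuasiSeparatedSp U.obj)
    (hqc : IsQuasiCompactSp X.obj) (hqs : IsQuasiSeparatedSp X.obj) {A : Set (Points X.obj)} (hA : IsOpen A)
    (hAc : IsCompact A) {T₀ : EtOver U.obj} [IsAffine T₀.obj.left.left] (h₀ : IsTerminal T₀)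
    {N : ModEt X.obj} [N.IsQuasicoherent] [N.IsFiniteType]
    (hfp : ∀ E : EtOver X.obj, IsAffine E.obj.left.left → InA A E →
      Module.FinitePresentation (gr E) (sectModEt N E)) :
    ∃ (Nv : ModEt U.obj) (ψ : Nv ⟶ (Res hj).obj N), Nv.IsQuasicoherent ∧
      (∀ W : EtOver U.obj, IsAffine W.obj.left.left → Module.FinitePresentation (gr W) (sectModEt Nv W)) ∧
      (∀ W : EtOver U.obj, IsAffine W.obj.left.left → Function.Surjective (hs ψ W)) ∧
      ∀ W : EtOver U.obj, InA A ((post hj).obj W) → Function.Bijective (hs ψ W) := by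
  classical
  have hT' : IsAffine ((post hj).obj T₀).obj.left.left := ‹IsAffine T₀.obj.left.left›
  have hc := exists_cover_preimage hqc hqs hA hAc ((post hj).obj T₀)
  choose O o hO hox hoA hoi using fun x : ↥(Points.ofPt ((post hj).obj T₀).obj.hom ⁻¹' A) =>
    exists_affine_nbhd T₀ ⟨_, hA.preimage (Points.continuous_ofPt ((post hj).obj T₀).obj.hom)⟩ x.2
  have hOA : ∀ x, InA A ((post hj).obj (O x)) := fun x w => by
    rw [← CostructuredArrow.w ((post hj).map (o x)).hom, AlgSpB.ofPt_map_comp]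
    exact hoA x ⟨w, rfl⟩
  obtain ⟨s, hs'⟩ := hc.elim_finite_subcover (fun x => Set.range (o x).hom.left.left)
    (fun x => have := hoi x; (o x).hom.left.left.isOpenEmbedding.isOpen_range)
    (fun x hx => Set.mem_iUnion.2 ⟨⟨x, hx⟩, hox ⟨x, hx⟩⟩)
  have : Module.Finite (gr T₀) (sectModEt ((Res hj).obj N) T₀) := finite_sections (M := N) ((post hj).obj T₀)
  obtain ⟨n, g, hg⟩ := exists_finite_generators (M := (Res hj).obj N) (E := T₀)
  let φ : freeMod U n ⟶ (Res hj).obj N := freeMap h₀ g
  have hφ : ∀ W : EtOver U.obj, IsAffine W.obj.left.left → Function.Surjective (hs φ W) :=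
    fun W _ => hs_freeMap_surjective h₀ g hg W
  have := isQuasicoherent_kernel φ
  have hK : ∀ x, Module.Finite (gr (O x)) (sectModEt (kernel φ) (O x)) := fun x => by
    have := hO x
    have := finite_sections (M := freeMod U n) (O x)
    have hx : IsAffine ((post hj).obj (O x)).obj.left.left := hO x
    exact finite_kernel φ (O x) (hφ _ (hO x)) (hfp _ hx (hOA x))
  obtain ⟨J, hJ, hJfg, hJm⟩ := exists_fg_top hUc hUs (M := kernel φ)
    (fun l : {x // x ∈ s} => O l.1) (fun l => hO _) (fun l => hK _)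
  have := isQuasicoherent_of_gen hJ
  have := isFiniteType_mod hJ hJfg
  let μ : J.mod ⟶ freeMod U n := J.ι ≫ kernel.ι φ
  have : Mono μ := inferInstanceAs (Mono (J.ι ≫ kernel.ι φ))
  have hq : (cokernel μ).IsQuasicoherent := isQuasicoherent_cokernel μ
  let ψ : cokernel μ ⟶ (Res hj).obj N := cokernel.desc μ φ (by simp [μ])
  have hψ : cokernel.π μ ≫ ψ = φ := cokernel.π_desc _ _ _
  have hψs : ∀ W : EtOver U.obj, IsAffine W.obj.left.left → Function.Surjective (hs ψ W) := fun W hW z => by
    obtain ⟨e, he⟩ := hφ W hW z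
    exact ⟨hs (cokernel.π μ) W e, (hs_of_comp_eq hψ W e).trans he⟩
  refine ⟨cokernel μ, ψ, hq, fun W hW => ?_, hψs, fun W hW => ?_⟩
  · have := finitePresentation_sections (M := freeMod U n) W
    exact finitePresentation_quot μ W
  · refine bijective_of_inA (A := Points.map j.hom ⁻¹' A) ψ (fun W hW hWA => ⟨?_, hψs W hW⟩) W
      ((inA_preimage hj).2 hW)
    · rw [injective_iff_map_eq_zero]
      intro z hz
      obtain ⟨e, rfl⟩ := hs_surjective (cokernel.π μ) W z
      rw [hs_of_comp_eq hψ] at hz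
      obtain ⟨k, rfl⟩ := exists_kernel_hs φ e hz
      suffices k ∈ J.carrier W by
        obtain ⟨x, hx⟩ := exists_mod_of_mem J this
        exact hs_cokernel_comp_eq_zero J.ι (kernel.ι φ) W x k hx
      have hpt : ∀ w : W.obj.left.left, ∃ (W' : EtOver U.obj) (a : W' ⟶ W) (x : {x // x ∈ s})
          (_ : W' ⟶ O x.1),
          IsAffine W'.obj.left.left ∧ w ∈ Set.range a.hom.left.left := by
        intro w
        have hw : (h₀.from W).hom.left.left w ∈ Points.ofPt ((post hj).obj T₀).obj.hom ⁻¹' A := by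
          change Points.ofPt ((post hj).obj T₀).obj.hom _ ∈ A
          have := (inA_preimage hj).1 hWA w
          rwa [← CostructuredArrow.w ((post hj).map (h₀.from W)).hom, AlgSpB.ofPt_map_comp] at this
        obtain ⟨x, hx, y, hy⟩ := Set.mem_iUnion₂.1 (hs' hw)
        obtain ⟨W', a, b, w', hW', hw', -⟩ := exists_common_affine (E := W) (E' := O x) (u := w) (u' := y) (by
          rw [← CostructuredArrow.w (h₀.from W).hom, ← CostructuredArrow.w (o x).hom,
            AlgSpB.ofPt_map_comp, AlgSpB.ofPt_map_comp, hy])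
        exact ⟨W', a, ⟨x, hx⟩, b, hW', w', hw'⟩
      choose W' a x b hW' hw using hpt
      refine mem_carrier_of_family J a (fun w => ⟨w, hw w⟩) k fun w => ?_
      have := hW' w
      have := hO (x w).1
      exact mem_carrier_of_top J (hJm (x w)) (b w) _

end Groth.Agent.AlgSpB.FPCover
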