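import Groth.Agent.AlgSpB.FPCover.Colim

/-!
# Modules with finite sections form an essentially small class
-/

universe u

open CategoryTheory CategoryTheory.Limits AlgebraicGeometry Opposite

set_option backward.isDefEq.respectTransparency false
set_option backward.isDefEq.respectTransparency.types false
set_option autoImplicit false
set_option maxHeartbeats 800000

namespace Groth.Agent.AlgSpB.FPCover

open _root_.AlgSp
open Groth.Agent.AlgSpQC
open Groth.Agent.AlgSpB.SubQC

variable {S : Scheme.{u}} {X : Space S}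

/-- A set large enough for the sections of modules finite over affine objects. -/
abbrev Univ (E : EtOver X.obj) : Type (u + 1) :=
  ∀ p : (Σ W : EtOver X.obj, W ⟶ E), Set (List (gr p.1))

/-- Sections finite on affine objects. -/
def FiniteSect (N : ModEt X.obj) : Prop :=
  ∀ E : EtOver X.obj, IsAffine E.obj.left.left → Module.Finite (gr E) (sectModEt N E)

theorem exists_surjective_list {N : ModEt X.obj} (hN : FiniteSect N) (W : EtOver X.obj) :
    ∃ σ : List (gr W) → sectModEt N W, IsAffine W.obj.left.left → Function.Surjective σ := by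
  by_cases hW : IsAffine W.obj.left.left
  · have := hN W hW
    obtain ⟨n, g, hg⟩ := Module.Finite.exists_fin (R := gr W) (M := sectModEt N W)
    refine ⟨fun l => ∑ i : Fin n, l.getD i.1 0 • g i, fun _ z => ?_⟩
    obtain ⟨c, rfl⟩ := (Submodule.mem_span_range_iff_exists_fun (gr W)).1 (hg ▸ (trivial : z ∈ ⊤))
    refine ⟨List.ofFn c, Finset.sum_congr rfl fun i _ => ?_⟩
    congr 1
    simp [List.getD_eq_getElem?_getD]
  · exact ⟨fun _ => 0, fun h => absurd h hW⟩

theorem exists_emb {N : ModEt X.obj} (hN : FiniteSect N) :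
    ∃ e : ∀ E : EtOver X.obj, sectModEt N E → Univ E, ∀ E, Function.Injective (e E) := by
  choose σ hσ using exists_surjective_list hN
  refine ⟨fun E s p => {l | σ p.1 l = rs N p.2 s}, fun E s t h => SubQC.eq_of_forall_affine fun W g hW => ?_⟩
  obtain ⟨l, hl⟩ := hσ W hW (rs N g s)
  exact hl.symm.trans ((congrFun h ⟨W, g⟩).le (show l ∈ {l | σ W l = rs N g s} from hl))

/-- A module structure on subsets of the large set. -/
structure Code (X : Space S) : Type (u + 1) where
  /-- addition -/
  add : ∀ E : EtOver X.obj, Set (Univ E × Univ E × Univ E)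
  /-- scalar multiplication -/
  smul : ∀ E : EtOver X.obj, Set (gr E × Univ E × Univ E)
  /-- restriction -/
  res : ∀ (E W : EtOver X.obj), (W ⟶ E) → Set (Univ E × Univ W)

/-- The code of an embedded module. -/
def codeOf {N : ModEt X.obj} (e : ∀ E : EtOver X.obj, sectModEt N E → Univ E) : Code X where
  add E := Set.range fun p : sectModEt N E × sectModEt N E => (e E p.1, e E p.2, e E (p.1 + p.2))
  smul E := Set.range fun p : gr E × sectModEt N E => (p.1, e E p.2, e E (p.1 • p.2))
  res E W g := Set.range fun s : sectModEt N E => (e E s, e W (rs N g s))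

theorem exists_hom_of_code {N N' : ModEt X.obj} (e : ∀ E : EtOver X.obj, sectModEt N E → Univ E)
    (e' : ∀ E : EtOver X.obj, sectModEt N' E → Univ E) (he' : ∀ E, Function.Injective (e' E))
    (h : codeOf e = codeOf e') : ∃ φ : N ⟶ N', ∀ E s, e' E (hs φ E s) = e E s := by
  have hadd : ∀ E a b, ∃ a' b', e' E a' = e E a ∧ e' E b' = e E b ∧ e' E (a' + b') = e E (a + b) := fun E a b => by
    obtain ⟨⟨a', b'⟩, h'⟩ : (e E a, e E b, e E (a + b)) ∈ (codeOf e').add E := h ▸ ⟨(a, b), rfl⟩
    exact ⟨a', b', congrArg Prod.fst h', congrArg (fun p => p.2.1) h', congrArg (fun p => p.2.2) h'⟩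
  choose m hm using fun E s => (hadd E s s).imp fun a ha => ha.choose_spec.1
  have uniq : ∀ {E : EtOver X.obj} {s : sectModEt N E} {t}, e' E t = e E s → t = m E s :=
    fun {E s t} ht => he' E (ht.trans (hm E s).symm)
  have hplus : ∀ E a b, m E (a + b) = m E a + m E b := fun E a b => by
    obtain ⟨a', b', h1, h2, h3⟩ := hadd E a b
    rw [← uniq h3, uniq h1, uniq h2]
  have hsmul : ∀ E (r : gr E) s, m E (r • s) = r • m E s := fun E r s => by
    obtain ⟨⟨r', s'⟩, h'⟩ : (r, e E s, e E (r • s)) ∈ (codeOf e').smul E := h ▸ ⟨(r, s), rfl⟩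
    obtain rfl : r' = r := congrArg Prod.fst h'
    rw [← uniq (congrArg (fun p => p.2.2) h'), uniq (congrArg (fun p => p.2.1) h')]
  have hres : ∀ (E W : EtOver X.obj) (g : W ⟶ E) s, m W (rs N g s) = rs N' g (m E s) := fun E W g s => by
    obtain ⟨s', h'⟩ : (e E s, e W (rs N g s)) ∈ (codeOf e').res E W g := h ▸ ⟨s, rfl⟩
    rw [← uniq (congrArg Prod.snd h'), uniq (congrArg Prod.fst h')]
  refine ⟨⟨PresheafOfModules.homMk
    { app := fun E => AddCommGrpCat.ofHom (AddMonoidHom.mk' (fun s => m E.unop s) (fun a b => hplus E.unop a b))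
      naturality := fun E E' g => by
        ext s
        exact hres E.unop E'.unop g.unop s }
    (fun E r s => hsmul E.unop r.down s)⟩, fun E s => hm E s⟩

/-- A choice of embedding. -/
noncomputable def emb {N : ModEt X.obj} (hN : FiniteSect N) : ∀ E : EtOver X.obj, sectModEt N E → Univ E :=
  (exists_emb hN).choose

theorem nonempty_iso_of_code {N N' : ModEt X.obj} (hN : FiniteSect N) (hN' : FiniteSect N')
    (h : codeOf (emb hN) = codeOf (emb hN')) : Nonempty (N ≅ N') := by
  have he := (exists_emb hN).choose_spec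
  have he' := (exists_emb hN').choose_spec
  obtain ⟨φ, hφ⟩ := exists_hom_of_code (emb hN) (emb hN') he' h
  obtain ⟨ψ, hψ⟩ := exists_hom_of_code (emb hN') (emb hN) he h.symm
  refine ⟨⟨φ, ψ, hom_ext_affine fun E _ s => he E ?_, hom_ext_affine fun E _ s => he' E ?_⟩⟩
  · rw [hs_comp]
    exact (hψ E _).trans (hφ E s)
  · rw [hs_comp]
    exact (hφ E _).trans (hψ E s)

theorem finiteSect_of_fp (N : ModEt X.obj) [N.IsFinitePresentation] : FiniteSect N :=
  fun E _ => finite_sections (M := N) E

/-- Indices of modules of finite presentation. -/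
abbrev Idx (X : Space S) : Type (u + 1) :=
  {c : Code X // ∃ (N : ModEt X.obj) (hN : FiniteSect N), N.IsFinitePresentation ∧ codeOf (emb hN) = c}

/-- The module of an index. -/
noncomputable def idxMod (i : Idx X) : ModEt X.obj := i.2.choose

instance isFinitePresentation_idxMod (i : Idx X) : (idxMod i).IsFinitePresentation := i.2.choose_spec.choose_spec.1

theorem exists_idx (N : ModEt X.obj) [N.IsFinitePresentation] : ∃ i : Idx X, Nonempty (idxMod i ≅ N) :=
  let i : Idx X := ⟨codeOf (emb (finiteSect_of_fp N)), N, finiteSect_of_fp N, inferInstance, rfl⟩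
  ⟨i, nonempty_iso_of_code i.2.choose_spec.choose (finiteSect_of_fp N) i.2.choose_spec.choose_spec.2⟩

end Groth.Agent.AlgSpB.FPCover
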