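import Groth.Agent.AlgSpB.FPCover.Geom
import Groth.Agent.AlgSpB.FPCover.Alg
import Groth.Agent.AlgSpEN.Induction

/-!
# Enlarging the part over which a map from a module is surjective
-/

universe u

open CategoryTheory CategoryTheory.Limits AlgebraicGeometry Opposite

set_option backward.isDefEq.respectTransparency false
set_option backward.isDefEq.respectTransparency.types false
set_option autoImplicit false
set_option maxHeartbeats 2000000

namespace Groth.Agent.AlgSpB.FPCover

open _root_.AlgSp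
open Groth.Agent.AlgSpQC
open Groth.Agent.AlgSpB.SubQC

variable {S : Scheme.{u}} {U X : Space S} {j : U ⟶ X} (hj : RepWith @Etale j.hom)

theorem sR_map {M N : ModEt X.obj} (φ : N ⟶ M) (E : EtOver X.obj)
    (x : sectModEt ((pushModEt hj.1).obj ((Res hj).obj N)) E) :
    sR hj M E (hs ((pushModEt hj.1).map ((Res hj).map φ)) E x) =
      hs φ ((post hj).obj ((EtOver.bc hj.1).obj E)) (sR hj N E x) := rfl

theorem etaR_naturality {M N : ModEt X.obj} (φ : N ⟶ M) :
    φ ≫ etaR hj M = etaR hj N ≫ (pushModEt hj.1).map ((Res hj).map φ) :=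
  (resAdj hj).unit.naturality φ

omit hj in
/-- Compatible families on a cover are detected on finitely many affine objects. -/
theorem exists_overlaps (B : EtOver U.obj) [QuasiSeparatedSpace B.obj.left.left] {κ : Type u} [Finite κ]
    {V : κ → EtOver U.obj} (v : ∀ k, V k ⟶ B) (hV : ∀ k, IsAffine (V k).obj.left.left) :
    ∃ (ρ : Type u) (_ : Finite ρ) (W : ρ → EtOver U.obj) (i j : ρ → κ) (p : ∀ t, W t ⟶ V (i t))
      (q : ∀ t, W t ⟶ V (j t)), (∀ t, IsAffine (W t).obj.left.left) ∧ (∀ t, p t ≫ v (i t) = q t ≫ v (j t)) ∧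
        ∀ (G : ModEt U.obj) (y : ∀ k, sectModEt G (V k)),
          (∀ t, rs G (p t) (y (i t)) = rs G (q t) (y (j t))) →
          ∀ a b (Z : EtOver U.obj) (ga : Z ⟶ V a) (gb : Z ⟶ V b), ga ≫ v a = gb ≫ v b →
            rs G ga (y a) = rs G gb (y b) := by
  choose L hL W g hW hcov using fun r : κ × κ =>
    (have := hV r.1; have := hV r.2; have := compactSpace_pullbackObj (v r.1) (v r.2);
      exists_finite_affine_cover (EtOver.pullbackObj (v r.1) (v r.2)))
  refine ⟨Σ r : κ × κ, L r, inferInstance, fun t => W t.1 t.2, fun t => t.1.1, fun t => t.1.2,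
    fun t => g t.1 t.2 ≫ EtOver.pullbackFst _ _, fun t => g t.1 t.2 ≫ EtOver.pullbackSnd _ _,
    fun t => hW t.1 t.2, fun t => by rw [Category.assoc, Category.assoc, EtOver.pullback_condition],
    fun G y hy a b Z ga gb h => ?_⟩
  have key : rs G (EtOver.pullbackFst (v a) (v b)) (y a) = rs G (EtOver.pullbackSnd (v a) (v b)) (y b) :=
    eq_of_family (g (a, b)) (hcov (a, b)) fun l => by
      rw [← rs_comp, ← rs_comp]
      exact hy ⟨(a, b), l⟩
  obtain ⟨l, rfl, rfl⟩ : ∃ l, l ≫ EtOver.pullbackFst (v a) (v b) = ga ∧ l ≫ EtOver.pullbackSnd (v a) (v b) = gb :=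
    ⟨_, PullbackCone.IsLimit.lift' (EtOver.pullbackIsLimit (v a) (v b)) ga gb h |>.2⟩
  rw [rs_comp, rs_comp, key]

/-- A compatible family over the open part gives a section of the direct image. -/
theorem exists_glue_res (G : ModEt X.obj) (E : EtOver X.obj) {κ : Type u} {V : κ → EtOver U.obj}
    (v : ∀ a, V a ⟶ (EtOver.bc hj.1).obj E)
    (hv : ∀ x : ((EtOver.bc hj.1).obj E).obj.left.left, ∃ a, x ∈ Set.range (v a).hom.left.left)
    (y : ∀ a, sectModEt G ((post hj).obj (V a)))
    (h : ∀ a b (Z : EtOver U.obj) (ga : Z ⟶ V a) (gb : Z ⟶ V b), ga ≫ v a = gb ≫ v b →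
      rs G ((post hj).map ga) (y a) = rs G ((post hj).map gb) (y b)) :
    ∃ τ : sectModEt ((pushModEt hj.1).obj ((Res hj).obj G)) E,
      ∀ a, rs G ((post hj).map (v a)) (sR hj G E τ) = y a := by
  obtain ⟨τ, hτ⟩ := exists_glue_sections (M := (Res hj).obj G) v hv y h
  exact ⟨τ, hτ⟩

theorem etaR_eq_map {M N : ModEt X.obj} (φ : N ⟶ M) (E : EtOver X.obj) {κ : Type u} {V : κ → EtOver U.obj}
    (v : ∀ a, V a ⟶ (EtOver.bc hj.1).obj E)
    (hv : ∀ x : ((EtOver.bc hj.1).obj E).obj.left.left, ∃ a, x ∈ Set.range (v a).hom.left.left)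
    (g : sectModEt M E) (τ : sectModEt ((pushModEt hj.1).obj ((Res hj).obj N)) E)
    (h : ∀ a, hs φ _ (rs N ((post hj).map (v a)) (sR hj N E τ)) = rs M ((post hj).map (v a) ≫ counitApp hj E) g) :
    hs (etaR hj M) E g = hs ((pushModEt hj.1).map ((Res hj).map φ)) E τ := by
  apply sR_injective hj M E
  rw [sR_etaR, sR_map]
  refine eq_of_family (fun a => (post hj).map (v a)) hv fun a => ?_
  rw [← hs_rs, h, rs_comp]

omit hj in
theorem finitePresentation_of_bijective {M N : ModEt X.obj} (φ : M ⟶ N) (E : EtOver X.obj)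
    (h : Function.Bijective (hs φ E)) [Module.FinitePresentation (gr E) (sectModEt M E)] :
    Module.FinitePresentation (gr E) (sectModEt N E) :=
  Module.finitePresentation_of_surjective (hs φ E) h.2 (by rw [LinearMap.ker_eq_bot.2 h.1]; exact Submodule.fg_bot)

omit U j hj in
/-- A module mapping onto `M` over a quasi-compact open part can be changed to one mapping onto `M` over a larger
part, keeping finite presentation over the old part. -/
theorem exists_surj_step [QuasiSeparatedSpace ↥S] (hqc : IsQuasiCompactSp X.obj) (hqs : IsQuasiSeparatedSp X.obj)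
    {A : Set (Points X.obj)} (hA : IsOpen A) (hAc : IsCompact A) (EV : EtOver X.obj) [IsAffine EV.obj.left.left]
    {M N : ModEt X.obj} [M.IsQuasicoherent] [M.IsFiniteType] [N.IsQuasicoherent] [N.IsFiniteType] (π : N ⟶ M)
    (hπ : ∀ E : EtOver X.obj, IsAffine E.obj.left.left → InA A E → Function.Surjective (hs π E)) :
    ∃ (N' : ModEt X.obj) (π' : N' ⟶ M), N'.IsQuasicoherent ∧ N'.IsFiniteType ∧
      (∀ E : EtOver X.obj, IsAffine E.obj.left.left → InA (A ∪ Set.range (Points.ofPt EV.obj.hom)) E →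
        Function.Surjective (hs π' E)) ∧
      ∀ E : EtOver X.obj, IsAffine E.obj.left.left → InA A E →
        Module.FinitePresentation (gr E) (sectModEt N E) → Module.FinitePresentation (gr E) (sectModEt N' E) := by
  classical
  obtain ⟨U, k, hk, hrk⟩ := Groth.Agent.AlgSpB.exists_openSubspace X hA
  have he : RepWith @Etale k.hom := etale_of_open hk
  have hU : IsQuasiCompactSp U.obj :=
    Groth.Agent.AlgSpEN.isQuasiCompactSp_of_isCompact_range k hk (hrk.symm ▸ hAc)
  have hkc := isQuasiCompactMor_hom (j := k) hqs hU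
  have hks := isQuasiSeparatedMor_of_open hk
  have hin : ∀ W : EtOver U.obj, InA A ((post he).obj W) := fun W => hrk ▸ inA_post he W
  -- the part of the chart over `A`
  have := compactSpace_bcO (f := k.hom) he.1 hkc EV
  have := quasiSeparatedSpace_bcO (f := k.hom) he.1 hks EV
  obtain ⟨κ, hκ, V, v, hV, hv⟩ := exists_finite_affine_cover (bcO he.1 EV)
  obtain ⟨ρ, hρ, W, ia, ib, p, q, hW, hpq, hmatch⟩ := exists_overlaps (bcO he.1 EV) v hV
  have := finite_sections (M := M) EV
  obtain ⟨n, g, hg⟩ := exists_finite_generators (M := M) (E := EV)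
  have hVp : ∀ a, IsAffine ((post he).obj (V a)).obj.left.left := hV
  have hWp : ∀ a, IsAffine ((post he).obj (W a)).obj.left.left := hW
  choose t ht using fun (i : ULift.{u + 1} (Fin n)) (a : κ) =>
    hπ ((post he).obj (V a)) (hVp a) (hin _) (rs M ((post he).map (v a) ≫ counitApp he EV) (g i))
  have hd : ∀ (r : ρ) (i : ULift.{u + 1} (Fin n)),
      hs π ((post he).obj (W r))
        (rs N ((post he).map (p r)) (t i (ia r)) - rs N ((post he).map (q r)) (t i (ib r))) = 0 := by
    intro r i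
    rw [map_sub, hs_rs, hs_rs, ht, ht, ← rs_comp, ← rs_comp, ← Category.assoc, ← Category.assoc,
      ← Functor.map_comp, ← Functor.map_comp, hpq r, sub_self]
  choose dK hdK using fun r i => exists_kernel_hs π _ (hd r i)
  have := isQuasicoherent_kernel π
  obtain ⟨D, hD, -, hDfg, hDm⟩ := exists_fg_le (M := kernel π) hqc hqs gen_topSub
    (κ := ρ × ULift.{u} (Fin n)) (fun r => (post he).obj (W r.1)) (fun r => hWp r.1)
    (fun r => dK r.1 ⟨r.2.down⟩) (fun r => trivial)
  have := isQuasicoherent_of_gen hD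
  have := isFiniteType_mod hD hDfg
  let μ : D.mod ⟶ N := D.ι ≫ kernel.ι π
  have : Mono μ := inferInstanceAs (Mono (D.ι ≫ kernel.ι π))
  let N₁ := cokernel μ
  have : N₁.IsQuasicoherent := isQuasicoherent_cokernel μ
  have : N₁.IsFiniteType := isFiniteType_of_epi (cokernel.π μ)
  let π₁ : N₁ ⟶ M := cokernel.desc μ π (by simp [μ])
  have hcπ : cokernel.π μ ≫ π₁ = π := cokernel.π_desc _ _ _
  -- the lifts agree in the quotient
  have hy : ∀ i r, rs N₁ ((post he).map (p r)) (hs (cokernel.π μ) _ (t i (ia r))) =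
      rs N₁ ((post he).map (q r)) (hs (cokernel.π μ) _ (t i (ib r))) := by
    intro i r
    rw [← hs_rs, ← hs_rs, ← sub_eq_zero, ← map_sub]
    obtain ⟨x, hx⟩ := exists_mod_of_mem D (hDm ⟨r, ⟨i.down⟩⟩)
    rw [← hdK r i, ← hx, hs_of_comp_eq (f := D.ι) (g := kernel.ι π) (k := μ) rfl]
    exact quot_eq_zero μ _ x
  choose τ hτ using fun i => exists_glue_res he N₁ EV v hv
    (fun a => hs (cokernel.π μ) ((post he).obj (V a)) (t i a))
    (hmatch ((Res he).obj N₁) (fun a => hs (cokernel.π μ) ((post he).obj (V a)) (t i a)) (hy i))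
  -- the enlarged module
  let P₁ := (pushModEt he.1).obj ((Res he).obj N₁)
  let PM := (pushModEt he.1).obj ((Res he).obj M)
  have : P₁.IsQuasicoherent := isQuasicoherent_push_qcqs (f := k.hom) he.1 ((Res he).obj N₁) hkc hks
  have : PM.IsQuasicoherent := isQuasicoherent_push_qcqs (f := k.hom) he.1 ((Res he).obj M) hkc hks
  let b : P₁ ⟶ PM := (pushModEt he.1).map ((Res he).map π₁)
  have : (fib (etaR he M) b).IsQuasicoherent := isQuasicoherent_fib _ _
  have hcond : ∀ i, hs (etaR he M) EV (g i) = hs b EV (τ i) := fun i =>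
    etaR_eq_map he π₁ EV v hv (g i) (τ i) fun a => by
      rw [hτ i a, hs_of_comp_eq hcπ, ht]
  choose s hs1 hs2 using fun i => exists_fib (etaR he M) b (g i) (τ i) (hcond i)
  let lam : N₁ ⟶ fib (etaR he M) b := kernel.lift _ (biprod.lift π₁ (etaR he N₁)) (by
    rw [Preadditive.comp_sub, sub_eq_zero, biprod.lift_fst_assoc, biprod.lift_snd_assoc]
    exact etaR_naturality he π₁)
  have hl1 : lam ≫ fibFst _ _ = π₁ := by simp [lam, fibFst]
  have hl2 : lam ≫ fibSnd _ _ = etaR he N₁ := by simp [lam, fibSnd]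
  obtain ⟨U₀, p₀, hU₀, hp₀, hps⟩ := AlgSpEN.exists_affine_atlas X hqc
  have hE₀ : IsAffine (EtOver.mk p₀ hp₀).obj.left.left := hU₀
  have h₀ : ∀ x : Points X.obj, ∃ w, Points.ofPt (EtOver.mk p₀ hp₀).obj.hom w = x := AlgSpB.surjective_ofPt hps
  obtain ⟨κ', hκ', mm, hmm⟩ := fg_of_finite (φ := lam) (EtOver.mk p₀ hp₀)
  obtain ⟨J, hJ, -, hJfg, hJm⟩ := exists_fg_le (M := fib (etaR he M) b) hqc hqs gen_topSub
    (κ := κ' ⊕ ULift.{u} (Fin n)) (fun i => Sum.elim (fun _ => EtOver.mk p₀ hp₀) (fun _ => EV) i)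
    (fun i => by rcases i with i | i <;> assumption)
    (fun i => match i with | .inl l => mm l | .inr i => s ⟨i.down⟩) (fun i => trivial)
  have := isQuasicoherent_of_gen hJ
  have := isFiniteType_mod hJ hJfg
  let lam' : N₁ ⟶ J.mod := J.lift lam fun E z => mem_of_chart lam h₀ (hmm J fun l => hJm (.inl l)) E z
  have hl' : lam' ≫ J.ι = lam := LocalSub.lift_ι _ _ _
  let π' : J.mod ⟶ M := J.ι ≫ fibFst _ _
  have hl'π : lam' ≫ π' = π₁ := by
    simp only [π']
    rw [← Category.assoc, hl', hl1]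
  -- over the old part nothing changes
  have hbij : ∀ E : EtOver X.obj, InA A E → Function.Bijective (hs lam' E) := by
    intro E hE
    obtain ⟨hinj, hsur⟩ := bijective_etaR he hk N₁ E (hrk.symm ▸ hE)
    refine ⟨fun a a' h => hinj ?_, fun z => ?_⟩
    · rw [← hs_of_comp_eq hl2, ← hs_of_comp_eq hl2, ← hs_of_comp_eq hl', ← hs_of_comp_eq hl', h]
    · obtain ⟨a, ha⟩ := hsur (hs (fibSnd (etaR he M) b) E (hs J.ι E z))
      refine ⟨a, hs_injective J.ι E ?_⟩
      rw [hs_of_comp_eq hl']
      refine fib_ext _ _ ?_ (by rw [hs_of_comp_eq hl2, ha])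
      apply (bijective_etaR he hk M E (hrk.symm ▸ hE)).1
      rw [fib_cond, fib_cond, hs_of_comp_eq hl2, ha]
  refine ⟨J.mod, π', inferInstance, inferInstance, fun E hE hEA => surjective_of_local π' E fun x => ?_,
    fun E hE hEA hN => ?_⟩
  · by_cases hx : Points.ofPt E.obj.hom x ∈ A
    · obtain ⟨Z, f, hZ, hxf, hfA, -⟩ := exists_affine_nbhd E
        ⟨Points.ofPt E.obj.hom ⁻¹' A, hA.preimage (Points.continuous_ofPt _)⟩ (x := x) hx
      have hZA : InA A Z := fun w => by
        rw [← CostructuredArrow.w f.hom, AlgSpB.ofPt_map_comp]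
        exact hfA ⟨w, rfl⟩
      refine ⟨Z, f, hZ, hxf, fun m => ?_⟩
      obtain ⟨m', rfl⟩ := hπ Z hZ hZA m
      exact ⟨hs lam' Z (hs (cokernel.π μ) Z m'), by rw [hs_of_comp_eq hl'π, hs_of_comp_eq hcπ]⟩
    · rcases hEA x with h | ⟨w, hw⟩
      · exact absurd h hx
      obtain ⟨Z, a, c, z, hZ, hz, -⟩ := exists_common_affine hw.symm
      refine ⟨Z, a, hZ, ⟨z, hz⟩, fun m => ?_⟩
      obtain ⟨cc, rfl⟩ := (pres_of_generators hg).exists_lc_eq' c m
      choose z' hz' using fun i => exists_mod_of_mem J (hJm (.inr ⟨i.down⟩) :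
        s i ∈ J.carrier EV)
      refine ⟨lc (sr c z') cc, (hs_lc π' Z (sr c z') cc).trans ?_⟩
      refine congrArg (fun f => lc f cc) (funext fun i => ?_)
      change hs π' Z (rs J.mod c (z' i)) = rs M c (g i)
      rw [hs_rs]
      refine congrArg _ ?_
      rw [← hs_of_comp_eq (f := J.ι) (g := fibFst (etaR he M) b) rfl]
      exact (congrArg (hs (fibFst (etaR he M) b) EV) (hz' i)).trans (hs1 i)
  · have := finitePresentation_quot μ E
    exact finitePresentation_of_bijective lam' E (hbij E hEA)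

end Groth.Agent.AlgSpB.FPCover
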